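import Mathlib

/-!
An action on a group that preserves the kernel of a surjection acts on the image; automorphism groups
of non-abelian simple groups have no non-trivial normal `p`-subgroup.
-/

set_option autoImplicit false

namespace Cfsg.Agent.ThreeTransp.M22Aut

theorem exists_descend {A K P : Type*} [Group A] [Group K] [Group P] (φ : K →* P)
    (hφ : Function.Surjective φ) (ρ : A →* MulAut K) (h : ∀ α k, φ k = 1 → φ (ρ α k) = 1) :
    ∃ Θ : A →* MulAut P, ∀ α k, Θ α (φ k) = φ (ρ α k) := by
  have key : ∀ α k l, φ k = φ l → φ (ρ α k) = φ (ρ α l) := fun α k l e => by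
    have := h α (k⁻¹ * l) (by rw [map_mul, map_inv, e, inv_mul_cancel])
    rw [map_mul, map_mul, map_inv, map_inv, inv_mul_eq_one] at this
    exact this
  obtain ⟨f, hf⟩ : ∃ f : A → P → P, ∀ α k, f α (φ k) = φ (ρ α k) :=
    ⟨fun α X => φ (ρ α (Function.surjInv hφ X)), fun α k => key α _ _ (Function.surjInv_eq hφ _)⟩
  have hone : ∀ X, f 1 X = X := fun X => by
    obtain ⟨k, rfl⟩ := hφ X
    rw [hf, map_one]; rfl
  have hmul : ∀ α β X, f (α * β) X = f α (f β X) := fun α β X => by
    obtain ⟨k, rfl⟩ := hφ X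
    rw [hf, hf, hf, map_mul]; rfl
  let aut : A → MulAut P := fun α =>
    { toFun := f α
      invFun := f α⁻¹
      left_inv := fun X => by rw [← hmul, inv_mul_cancel, hone]
      right_inv := fun X => by rw [← hmul, mul_inv_cancel, hone]
      map_mul' := fun X Y => by
        obtain ⟨k, rfl⟩ := hφ X
        obtain ⟨l, rfl⟩ := hφ Y
        rw [← map_mul, hf, hf, hf, map_mul, map_mul] }
  exact ⟨MonoidHom.mk' aut fun α β => MulEquiv.ext fun X => hmul α β X, hf⟩

theorem mulAut_no_pGroup {P : Type*} [Group P] [Finite P] [IsSimpleGroup P] {p : ℕ}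
    [Fact p.Prime] (hc : Subgroup.center P = ⊥) {N : Subgroup (MulAut P)} [N.Normal]
    (hN : IsPGroup p N) : N = ⊥ := by
  have hinj : Function.Injective (MulAut.conj : P →* MulAut P) :=
    (injective_iff_map_eq_one _).2 fun x hx => Subgroup.mem_bot.1 (hc ▸ Subgroup.mem_center_iff.2
      fun y => (mul_inv_eq_iff_eq_mul.1 (by simpa using MulEquiv.congr_fun hx y)).symm)
  haveI hn : (N.comap (MulAut.conj : P →* MulAut P)).Normal := Subgroup.Normal.comap inferInstance _
  rcases IsSimpleGroup.eq_bot_or_eq_top_of_normal _ hn with h | h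
  · rw [eq_bot_iff]
    intro n hn'
    rw [Subgroup.mem_bot]
    refine MulEquiv.ext fun x => ?_
    have e : n * MulAut.conj x * n⁻¹ = MulAut.conj (n x) := MulEquiv.ext fun y => by
      simp [MulAut.mul_apply, MulAut.conj_apply]
    have hm : MulAut.conj (n x * x⁻¹) ∈ N := by
      rw [map_mul, map_inv, ← e, mul_assoc n, mul_assoc]
      exact mul_mem hn' (Subgroup.Normal.conj_mem inferInstance _ (inv_mem hn') _)
    have : n x * x⁻¹ ∈ N.comap (MulAut.conj : P →* MulAut P) := hm
    rw [h, Subgroup.mem_bot, mul_inv_eq_one] at this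
    exact this
  · exfalso
    have hP : IsPGroup p P := by
      have h1 := hN.comap_of_injective (MulAut.conj : P →* MulAut P) hinj
      rw [h] at h1
      exact h1.of_equiv Subgroup.topEquiv
    exact (hP.bot_lt_center).ne hc.symm

end Cfsg.Agent.ThreeTransp.M22Aut
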