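import Cfsg.Agent.Lib.ThreeTransp.M22Aut.Kernel
import Cfsg.Agent.Lib.LargeExtra.Affine

/-!
The kernel of the action on the four-dimensional quotient is a large extraspecial group.
-/

set_option autoImplicit false
set_option linter.unusedSectionVars false

namespace Cfsg.Agent.ThreeTransp.M22Aut

open Cfsg.Agent.ThreeTransp
open Cfsg.Agent.ThreeTransp.Factor (nb Hd mem_Hd Hd_commute)
open Cfsg.Agent.ThreeTransp.M22Iso (IsInner)
open Cfsg.Agent.ThreeTransp.M22 (cl KK mem_KK radical lineGens Chart phi conj_eq_self_iff)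
open Cfsg.Agent.ThreeTransp.M22.PairHom (v0)

universe u

/-- A shift of a three-cycle of order dividing 2048 is trivial. -/
theorem shift_zero : ∀ c : ZMod 3, (2048 : ℕ) * c = (0 : ZMod 3) → c = 0 := by
  intro c h
  rw [show ((2048 : ℕ) : ZMod 3) = 2 from by decide +kernel] at h
  revert h c
  decide

variable {G : Type u} [Group G]

/-- Equal or differing by `z`. -/
def Eqv (z u v : G) : Prop := u = v ∨ u = v * z

theorem Eqv.trans {z u v w : G} (hz : z * z = 1) (h : Eqv z u v) (h' : Eqv z v w) : Eqv z u w := by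
  rcases h with rfl | rfl <;> rcases h' with rfl | rfl
  exacts [Or.inl rfl, Or.inr rfl, Or.inr rfl, Or.inl (by rw [mul_assoc, hz, mul_one])]

theorem Eqv.symm {z u v : G} (hz : z * z = 1) (h : Eqv z u v) : Eqv z v u := by
  rcases h with rfl | rfl
  exacts [Or.inl rfl, Or.inr (by rw [mul_assoc, hz, mul_one])]

theorem Eqv.map {z u v : G} {H : Type*} [Group H] (f : G →* H) (h : Eqv z u v) :
    Eqv (f z) (f u) (f v) := by
  rcases h with rfl | rfl
  exacts [Or.inl rfl, Or.inr (map_mul f v z)]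

variable [Finite G] {D : Set G} (hD : Cfsg.IsThreeTranspositionGroup D)
  (hprim : Cfsg.IsPrimitiveUnderConj D) (h22 : Cfsg.IsOfTypeM22 G D)
include hD hprim h22

omit hprim h22 in
theorem sq_eq_pair {a b : G} (ha : a ∈ D) (hb : b ∈ nb D a) : a * b * (a * b) = 1 := by
  rw [show a * b * (a * b) = a * (b * a) * b by simp only [mul_assoc], ← hb.2.2.eq,
    show a * (a * b) * b = a * a * (b * b) by simp only [mul_assoc], Classes.sq hD ha,
    Classes.sq hD hb.1, mul_one]

theorem zpow_cases {a b x : G} (ha : a ∈ D) (hb : b ∈ nb D a)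
    (hx : x ∈ Subgroup.zpowers (a * b)) : x = 1 ∨ x = a * b := by
  obtain ⟨k, rfl⟩ := Subgroup.mem_zpowers_iff.1 hx
  have h2 : (a * b) ^ (2 : ℤ) = 1 := by rw [zpow_two, sq_eq_pair hD ha hb]
  obtain ⟨m, rfl⟩ | ⟨m, rfl⟩ := Int.even_or_odd k
  · left; rw [← two_mul, zpow_mul, h2, _root_.one_zpow]
  · right; rw [zpow_add, zpow_one, zpow_mul, h2, _root_.one_zpow, one_mul]

/-- The radical is symmetric in the pair. -/
theorem radical_symm {a b : G} (ha : a ∈ D) (hb : b ∈ nb D a) :
    radical D b a ≤ radical D a b := by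
  refine (Subgroup.closure_le _).2 fun g hg => Subgroup.subset_closure ?_
  rcases hg with ⟨x, hx, y, hy, rfl⟩ | hg
  · exact Or.inl ⟨x, ⟨hx.2, hx.1⟩, y, hy.imp id Factor.Third.swap, rfl⟩
  · exact Or.inr (by rwa [Set.pair_comm])

section Odd

variable {Q K : Subgroup (MulAut G)} (hK : Odd (Nat.card ↥K))
include hK

theorem sq_trivial {α : MulAut G} (hα : α ∈ K) (h : α * α = 1) : α = 1 := by
  have h1 : orderOf (⟨α, hα⟩ : ↥K) ∣ 2 :=
    orderOf_dvd_of_pow_eq_one (Subtype.ext (by rw [SubmonoidClass.coe_pow, pow_two, h]; rfl))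
  rcases (Nat.dvd_prime Nat.prime_two).1 h1 with e | e
  · exact congrArg Subtype.val (orderOf_eq_one_iff.1 e)
  · exfalso
    have := orderOf_dvd_natCard (⟨α, hα⟩ : ↥K)
    rw [e] at this
    exact (Nat.not_even_iff_odd.2 hK) (even_iff_two_dvd.2 this)

theorem inner_of_odd {α : MulAut G} (hα : α ∈ K) : IsInner α := by
  by_contra hout
  obtain ⟨m, hm⟩ := hK
  have h1 : α ^ (2 * m + 1) = 1 := by
    rw [← hm, ← orderOf_dvd_iff_pow_eq_one]
    have := orderOf_dvd_natCard (⟨α, hα⟩ : ↥K)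
    rwa [← Subgroup.orderOf_coe] at this
  have h2 : ∀ n : ℕ, IsInner ((α * α) ^ n) := fun n => by
    induction n with
    | zero => exact ⟨1, fun x => by simp⟩
    | succ n ih => rw [pow_succ]; exact inner_mul ih (mul_inner hD hprim h22 hout hout)
  refine hout ?_
  have h3 : (α * α) ^ (m + 1) = α := by
    rw [← pow_two, ← pow_mul, show 2 * (m + 1) = 2 * m + 1 + 1 by ring, pow_succ, h1, one_mul]
  rw [← h3]
  exact h2 _

/-- An odd group normalised by the radical meets the centraliser of `a` trivially, provided it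
meets that of the pair trivially. -/
theorem fixed_trivial {a b : G} (ha : a ∈ D) (hb : b ∈ nb D a)
    (hR : ∀ r ∈ radical D a b, MulAut.conj r ∈ Subgroup.normalizer (K : Set (MulAut G)))
    (hpair : ∀ g ∈ KK a b, MulAut.conj g ∈ K → g = 1) {g : G} (hgK : MulAut.conj g ∈ K)
    (hga : Commute g a) : g = 1 := by
  have hconjK : ∀ r ∈ radical D a b, ∀ y, MulAut.conj y ∈ K → MulAut.conj (r * y * r⁻¹) ∈ K := by
    intro r hr y hy
    rw [map_mul, map_mul, map_inv]
    exact (Subgroup.mem_normalizer_iff.1 (hR r hr) _).1 hy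
  obtain ⟨b', hb'⟩ : ∃ b', b' = g * b * g⁻¹ := ⟨_, rfl⟩
  have hbR : b ∈ radical D a b := Subgroup.subset_closure (Or.inr (by simp))
  have hb'a : b' ∈ nb D a := by
    have := Cover.conj_nb hD g hb
    rwa [conj_eq_self_iff.2 hga, ← hb'] at this
  have hbb : MulAut.conj (b * b') ∈ K := by
    rw [hb', show b * (g * b * g⁻¹) = (b * g * b⁻¹) * g⁻¹ by
      rw [Classes.inv hD hb.1]; simp only [mul_assoc], map_mul, map_inv]
    exact mul_mem (hconjK b hbR g hgK) (inv_mem hgK)
  by_cases hc : Commute b b'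
  · by_cases he : b' = b
    · refine hpair g (mem_KK.2 ⟨hga, conj_eq_self_iff.1 ?_⟩) hgK
      rw [← hb', he]
    · exfalso
      have h := sq_trivial hD hprim h22 hK hbb (by
        rw [← map_mul, show b * b' * (b * b') = b * (b' * b) * b' by simp only [mul_assoc],
          ← hc.eq, show b * (b * b') * b' = b * b * (b' * b') by simp only [mul_assoc],
          Classes.sq hD hb.1, Classes.sq hD hb'a.1, mul_one, map_one])
      rw [← (MulAut.conj : G →* MulAut G).map_one] at h
      have := conj_inj hD hprim h22 h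
      rw [mul_eq_one_iff_inv_eq, Classes.inv hD hb.1] at this
      exact he this.symm
  obtain ⟨r, hr, hrc, hrne⟩ := exists_push hD hprim h22 ha hb hb'a hc
  have hrb : r * b * r⁻¹ = b := by
    have h := Subgroup.mem_centralizer_iff.1 (M22.radical_le hD hprim h22 ha hb hr)
    exact conj_eq_self_iff.2 (show Commute r b from (h b (by simp)).symm)
  obtain ⟨b'', hb''⟩ : ∃ b'', b'' = r * b' * r⁻¹ := ⟨_, rfl⟩
  rw [← hb''] at hrc hrne
  have hb''D : b'' ∈ D := hb'' ▸ hD.2.1 r b' hb'a.1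
  have h1 : MulAut.conj (b * b'') ∈ K := by
    have := hconjK r hr _ hbb
    rwa [show r * (b * b') * r⁻¹ = (r * b * r⁻¹) * (r * b' * r⁻¹) by group, hrb, ← hb''] at this
  have h2 : MulAut.conj (b' * b'') ∈ K := by
    rw [show b' * b'' = (b * b')⁻¹ * (b * b'') by
      rw [_root_.mul_inv_rev, Classes.inv hD hb.1, Classes.inv hD hb'a.1, mul_assoc b' b,
        ← mul_assoc b b, Classes.sq hD hb.1, one_mul], map_mul, map_inv]
    exact mul_mem (inv_mem hbb) h1
  have h := sq_trivial hD hprim h22 hK h2 (by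
    rw [← map_mul, show b' * b'' * (b' * b'') = b' * (b'' * b') * b'' by simp only [mul_assoc],
      hrc.eq, show b' * (b' * b'') * b'' = b' * b' * (b'' * b'') by simp only [mul_assoc],
      Classes.sq hD hb'a.1, Classes.sq hD hb''D, mul_one, map_one])
  rw [← (MulAut.conj : G →* MulAut G).map_one] at h
  have := conj_inj hD hprim h22 h
  rw [mul_eq_one_iff_inv_eq, Classes.inv hD hb'a.1] at this
  exact absurd this.symm hrne

end Odd

variable {a b : G} (ha : a ∈ D) (C : Chart D a) (hC : C.f v0 = b)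
  (Θ : ↥(CA a b) →* MulAut (Cfsg.PSU 4 C.F 2))

variable (hΘ : ∀ (α : ↥(CA a b)) (k : ↥(KK a b)), Θ α (phi hD hprim h22 ha C hC k) = phi hD hprim h22 ha C hC
    (rho hD hprim h22 ha (M22.hb_of hD hprim h22 ha C hC) α k))
include ha hC hΘ

local notation "φ" => phi hD hprim h22 ha C hC
local notation "hb!" => M22.hb_of hD hprim h22 ha C hC

set_option quotPrecheck false in
/-- The kernel, as a subgroup of the automorphism group. -/
local notation "QQ" => (MonoidHom.ker Θ).map (CA a b).subtype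

theorem mem_QQ {q : MulAut G} : q ∈ QQ ↔ ∃ h : q ∈ CA a b, (⟨q, h⟩ : ↥(CA a b)) ∈ Θ.ker :=
  ⟨fun ⟨p, hp, e⟩ => by subst e; exact ⟨p.2, hp⟩, fun ⟨h, hk⟩ => ⟨⟨q, h⟩, hk, rfl⟩⟩

theorem conj_QQ {r : G} (hr : r ∈ radical D a b) : MulAut.conj r ∈ QQ :=
  (mem_QQ hD hprim h22 ha C hC Θ hΘ).2 ⟨radical_CA hD hprim h22 ha C hC Θ hΘ hr,
    (conj_ker hD hprim h22 ha C hC Θ hΘ _).2 hr⟩

/-- The kernel preserves the pairings of every line. -/
theorem ker_pairing {q : ↥(CA a b)} (hq : q ∈ Θ.ker) {x y : G} (hx : x ∈ nb D a ∩ nb D b)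
    (hy : y ∈ cl D a b x) (hne : y ≠ x) : Eqv (a * b) ((q : MulAut G) (x * y)) (x * y) := by
  have hb := hb!
  have hzz : a * b * (a * b) = 1 := sq_eq_pair hD ha hb
  obtain ⟨k, hk, hkx, hmove⟩ := exists_cycle hD hprim h22 ha hb hx
  have hka := conj_eq_self_iff.2 (mem_KK.1 hk).1
  have hkb := conj_eq_self_iff.2 (mem_KK.1 hk).2
  have hkcl : ∀ z ∈ cl D a b x, k * z * k⁻¹ ∈ cl D a b x := fun z hz => by
    have := M22.cl_conj hD k hz
    rwa [hka, hkb, hkx] at this
  have hinj : ∀ {u v : G}, k * u * k⁻¹ = k * v * k⁻¹ → u = v := fun h =>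
    mul_left_cancel (mul_right_cancel h)
  obtain ⟨s, hs⟩ : ∃ s, s = k * y * k⁻¹ := ⟨_, rfl⟩
  obtain ⟨t, ht⟩ : ∃ t, t = k * s * k⁻¹ := ⟨_, rfl⟩
  have hsx : s ≠ x := fun h => hne (hinj (by rw [← hs, h, hkx]))
  have htx : t ≠ x := fun h => hsx (hinj (by rw [← ht, h, hkx]))
  have hscl : s ∈ cl D a b x := hs ▸ hkcl y hy
  have htcl : t ∈ cl D a b x := ht ▸ hkcl s hscl
  have hsy : s ≠ y := hs ▸ hmove y hy hne
  have hts : t ≠ s := ht ▸ hmove s hscl hsx
  obtain ⟨u₁, u₂, hu1, hu2, hnd, hset, hprod⟩ := M22.cl_prod hD hprim h22 ha hb hx hy hne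
  simp only [List.nodup_cons, List.mem_cons, List.not_mem_nil, or_false, not_or,
    List.nodup_nil, and_true, not_false_eq_true] at hnd
  have four : ∀ z ∈ cl D a b x, z = x ∨ z = y ∨ z = u₁ ∨ z = u₂ := fun z hz => by
    rw [hset] at hz; simpa using hz
  have hty : t ≠ y := by
    intro hty
    -- the fourth member would be fixed
    obtain ⟨w, hw, hwx, hwy, hws⟩ : ∃ w ∈ cl D a b x, w ≠ x ∧ w ≠ y ∧ w ≠ s := by
      rcases ((four s hscl).resolve_left hsx).resolve_left hsy with e | e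
      · exact ⟨u₂, hu2, Ne.symm hnd.1.2.2, Ne.symm hnd.2.1.2, fun h => hnd.2.2 (h.trans e).symm⟩
      · exact ⟨u₁, hu1, Ne.symm hnd.1.2.1, Ne.symm hnd.2.1.1, fun h => hnd.2.2 (h.trans e)⟩
    have hkw := hkcl w hw
    have a1 : k * w * k⁻¹ ≠ x := fun h => hwx (hinj (by rw [h, hkx]))
    have a2 : k * w * k⁻¹ ≠ y := fun h => hws (hinj (by rw [h, ← ht, hty]))
    have a3 : k * w * k⁻¹ ≠ s := fun h => hwy (hinj (by rw [h, hs]))
    refine hmove w hw hwx ?_
    have o1 := ((four s hscl).resolve_left hsx).resolve_left hsy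
    have o2 := ((four w hw).resolve_left hwx).resolve_left hwy
    have o3 := ((four _ hkw).resolve_left a1).resolve_left a2
    rcases o1 with e1 | e1 <;> rcases o2 with e2 | e2 <;> rcases o3 with e3 | e3 <;>
      first
      | exact e3.trans e2.symm
      | exact absurd (e2.trans e1.symm) hws
      | exact absurd (e3.trans e1.symm) a3
  have hall : ∀ z ∈ cl D a b x, z = x ∨ z = y ∨ z = s ∨ z = t := by
    intro z hz
    have o1 := ((four s hscl).resolve_left hsx).resolve_left hsy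
    have o2 := ((four t htcl).resolve_left htx).resolve_left hty
    rcases four z hz with e | e | e | e
    · exact Or.inl e
    · exact Or.inr (Or.inl e)
    all_goals
      rcases o1 with e1 | e1 <;> rcases o2 with e2 | e2 <;>
        first
        | exact Or.inr (Or.inr (Or.inl (e.trans e1.symm)))
        | exact Or.inr (Or.inr (Or.inr (e.trans e2.symm)))
        | exact absurd (e2.trans e1.symm) hts
  have comm : ∀ u ∈ cl D a b x, ∀ v ∈ cl D a b x, Commute u v := fun u hu v hv =>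
    M22.cl_comm hD hprim h22 ha hb hx hu hv
  -- complementary pairs
  have compl : ∀ {w u v : G}, w ∈ cl D a b x → u ∈ cl D a b x → v ∈ cl D a b x → w ≠ x → u ≠ x →
      v ≠ x → u ≠ w → v ≠ w → u ≠ v → Eqv (a * b) (u * v) (x * w) := by
    intro w u v hw hu hv hwx hux hvx huw hvw huv
    obtain ⟨p, r, hp, hr, -, hset', hprod'⟩ := M22.cl_prod hD hprim h22 ha hb hx hw hwx
    have m : ∀ z ∈ cl D a b x, z ≠ x → z ≠ w → z = p ∨ z = r := fun z hz h1 h2 => by
      rw [hset'] at hz
      simp only [Set.mem_insert_iff, Set.mem_singleton_iff] at hz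
      exact (hz.resolve_left h1).resolve_left h2
    have e : u * v = p * r := by
      rcases m u hu hux huw with e1 | e1 <;> rcases m v hv hvx hvw with e2 | e2
      · exact absurd (e1.trans e2.symm) huv
      · rw [e1, e2]
      · rw [e1, e2, (comm r hr p hp).eq]
      · exact absurd (e1.trans e2.symm) huv
    refine Or.inr ?_
    rw [e, ← hprod', ← mul_assoc, M22.gen_sq hD hprim h22 ha hb hx hw, one_mul]
  let e : ZMod 3 → G := fun i => if i = 0 then x * y else if i = 1 then x * s else x * t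
  have he0 : e 0 = x * y := rfl
  have he1 : e 1 = x * s := rfl
  have he2 : e 2 = x * t := rfl
  have z3 : ∀ i : ZMod 3, i = 0 ∨ i = 1 ∨ i = 2 := by decide
  have hkt : k * t * k⁻¹ = y := by
    rcases hall _ (hkcl t htcl) with h | h | h | h
    · exact absurd (hinj (by rw [h, hkx])) htx
    · exact h
    · exact absurd (hinj (by rw [h, hs])) hty
    · exact absurd (hinj (by rw [h, ← ht])) hts
  have hstep : ∀ i, k * e i * k⁻¹ = e (i + 1) := by
    intro i
    have hm : ∀ w, k * (x * w) * k⁻¹ = x * (k * w * k⁻¹) := fun w => by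
      rw [show k * (x * w) * k⁻¹ = (k * x * k⁻¹) * (k * w * k⁻¹) by group, hkx]
    rcases z3 i with rfl | rfl | rfl
    · rw [he0, zero_add, he1, hm, ← hs]
    · rw [he1, show (1 : ZMod 3) + 1 = 2 by decide, he2, hm, ← ht]
    · rw [he2, show (2 : ZMod 3) + 1 = 0 by decide, he0, hm, hkt]
  have heR : ∀ i, e i ∈ radical D a b := fun i => by
    rcases z3 i with rfl | rfl | rfl
    exacts [Subgroup.subset_closure (Or.inl ⟨x, hx, y, hy, rfl⟩),
      Subgroup.subset_closure (Or.inl ⟨x, hx, s, hscl, rfl⟩),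
      Subgroup.subset_closure (Or.inl ⟨x, hx, t, htcl, rfl⟩)]
  -- distinct classes
  have h4 : Factor.Rel 4 D := (Factor.M22_core hD h22).2.1.mono (by norm_num)
  have hsub := (M22.cl_spec hD hprim h22 ha hb hx).2
  have dist : ∀ {w w' : G}, w ∈ cl D a b x → w' ∈ cl D a b x → w ≠ x → w' ≠ x →
      Eqv (a * b) (x * w) (x * w') → w = w' := by
    intro w w' hw hw' hwx hwx' h
    rcases h with h | h
    · exact mul_left_cancel h
    exfalso
    obtain ⟨p, r, hp, hr, hnd', -, hprod'⟩ := M22.cl_prod hD hprim h22 ha hb hx hw' hwx'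
    rw [← hprod', ← mul_assoc, M22.gen_sq hD hprim h22 ha hb hx hw', one_mul] at h
    simp only [List.nodup_cons, List.mem_cons, List.not_mem_nil, or_false, not_or,
      List.nodup_nil, and_true, not_false_eq_true] at hnd'
    rcases Factor.pair_unique hD h4 hx.1.1 (hsub hw).1.1 (hsub hp).1.1 (hsub hr).1.1 hwx.symm
      hnd'.2.2 (comm x (Or.inl rfl) w hw) (comm p hp r hr) h with ⟨h1, -⟩ | ⟨-, h1⟩
    · exact hnd'.1.2.1 h1.symm
    · exact hnd'.1.2.2 h1.symm
  have heinj : ∀ i j, Eqv (a * b) (e i) (e j) → i = j := by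
    intro i j h
    rcases z3 i with rfl | rfl | rfl <;> rcases z3 j with rfl | rfl | rfl <;>
      first
      | rfl
      | exact absurd (dist hy hscl hne hsx h) hsy.symm
      | exact absurd (dist hy htcl hne htx h) hty.symm
      | exact absurd (dist hscl hy hsx hne h) hsy
      | exact absurd (dist hscl htcl hsx htx h) hts.symm
      | exact absurd (dist htcl hy htx hne h) hty
      | exact absurd (dist htcl hscl htx hsx h) hts
  -- every product of two members
  have hcover : ∀ u ∈ cl D a b x, ∀ v ∈ cl D a b x, u ≠ v → ∃ i, Eqv (a * b) (u * v) (e i) := by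
    intro u hu v hv huv
    have direct : ∀ w ∈ cl D a b x, w ≠ x → ∃ i, x * w = e i := fun w hw hwx => by
      rcases (hall w hw).resolve_left hwx with h | h | h
      exacts [⟨0, by rw [he0, h]⟩, ⟨1, by rw [he1, h]⟩, ⟨2, by rw [he2, h]⟩]
    by_cases hux : u = x
    · obtain ⟨i, hi⟩ := direct v hv (fun h => huv (hux.trans h.symm))
      exact ⟨i, Or.inl (by rw [hux, hi])⟩
    by_cases hvx : v = x
    · obtain ⟨i, hi⟩ := direct u hu hux
      exact ⟨i, Or.inl (by rw [hvx, (comm u hu x (Or.inl rfl)).eq, hi])⟩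
    obtain ⟨w, hw, hwx, hwu, hwv⟩ : ∃ w ∈ cl D a b x, w ≠ x ∧ w ≠ u ∧ w ≠ v := by
      rcases (hall u hu).resolve_left hux with rfl | rfl | rfl <;>
        rcases (hall v hv).resolve_left hvx with rfl | rfl | rfl <;>
        first
        | exact absurd rfl huv
        | exact ⟨t, htcl, htx, hty, hts⟩
        | exact ⟨t, htcl, htx, hts, hty⟩
        | exact ⟨s, hscl, hsx, hsy, hts.symm⟩
        | exact ⟨s, hscl, hsx, hts.symm, hsy⟩
        | exact ⟨y, hy, hne, hsy.symm, hty.symm⟩
        | exact ⟨y, hy, hne, hty.symm, hsy.symm⟩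
    obtain ⟨i, hi⟩ := direct w hw hwx
    exact ⟨i, hi ▸ compl hw hu hv hwx hux hvx hwu.symm hwv.symm huv⟩
  -- the permutation of the classes
  have hqx : ∀ {z : G}, z ∈ nb D a ∩ nb D b → (q : MulAut G) z ∈ cl D a b z := fun {z} hz =>
    ker_line hD hprim h22 ha C hC Θ hΘ hq hz
  have hqcl : ∀ z ∈ cl D a b x, (q : MulAut G) z ∈ cl D a b x := fun z hz => by
    have h1 := hqx (hsub hz)
    rwa [M22.cl_eq hD hprim h22 ha hb hx hz] at h1
  have hq0 : ∀ i, ∃ j, Eqv (a * b) ((q : MulAut G) (e i)) (e j) := by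
    intro i
    rcases z3 i with rfl | rfl | rfl
    · rw [he0, map_mul]
      exact hcover _ (hqcl x (Or.inl rfl)) _ (hqcl y hy) fun h => hne ((q : MulAut G).injective h).symm
    · rw [he1, map_mul]
      exact hcover _ (hqcl x (Or.inl rfl)) _ (hqcl s hscl) fun h =>
        hsx ((q : MulAut G).injective h).symm
    · rw [he2, map_mul]
      exact hcover _ (hqcl x (Or.inl rfl)) _ (hqcl t htcl) fun h =>
        htx ((q : MulAut G).injective h).symm
  have hqab : (q : MulAut G) (a * b) = a * b := (mem_CA hD hprim h22).1 q.2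
  have hequiv : ∀ i j, Eqv (a * b) ((q : MulAut G) (e i)) (e j) →
      Eqv (a * b) ((q : MulAut G) (e (i + 1))) (e (j + 1)) := by
    intro i j h
    obtain ⟨r, hr, hqk⟩ : ∃ r ∈ radical D a b, (q : MulAut G) k = k * r := by
      refine ⟨k⁻¹ * (q : MulAut G) k, ?_, (mul_inv_cancel_left _ _).symm⟩
      have hqK := map_KK hD hprim h22 ha hb q.2 hk
      rw [mem_radical hD hprim h22 ha C hC (mul_mem (inv_mem hk) hqK),
        show (⟨k⁻¹ * (q : MulAut G) k, _⟩ : ↥(KK a b)) = (⟨k, hk⟩ : ↥(KK a b))⁻¹ * ⟨_, hqK⟩ from rfl,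
        map_mul, map_inv]
      exact inv_mul_eq_one.2 ((mem_ker_iff hD hprim h22 ha C hC Θ hΘ).1 hq ⟨k, hk⟩).symm
    have h1 : Eqv (a * b) (r * (q : MulAut G) (e i) * r⁻¹) ((q : MulAut G) (e i)) := by
      have heK := radical_le_KK hD hprim h22 ha C hC (heR i)
      have hqe : (q : MulAut G) (e i) ∈ radical D a b :=
        (mem_radical hD hprim h22 ha C hC (map_KK hD hprim h22 ha hb q.2 heK)).2
          (((mem_ker_iff hD hprim h22 ha C hC Θ hΘ).1 hq ⟨_, heK⟩).trans
            ((mem_radical hD hprim h22 ha C hC heK).1 (heR i)))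
      rcases zpow_cases hD hprim h22 ha hb (M22.radical_comm hD hprim h22 ha hb hr hqe) with h | h
      · exact Or.inl (mul_inv_eq_one.1 h)
      · refine Or.inr ?_
        rw [mul_inv_eq_iff_eq_mul] at h
        rw [h]
        obtain ⟨c1, c2⟩ := mem_KK.1 (radical_le_KK hD hprim h22 ha C hC hqe)
        exact (c1.mul_right c2).eq.symm
    have h2 := (h1.trans hzz h).map (MulAut.conj k).toMonoidHom
    simp only [MulEquiv.coe_toMonoidHom, MulAut.conj_apply] at h2
    rw [hstep, conj_eq_self_iff.2 ((mem_KK.1 hk).1.mul_right (mem_KK.1 hk).2)] at h2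
    rwa [← hstep i, map_mul, map_mul, map_inv, hqk,
      show k * r * (q : MulAut G) (e i) * (k * r)⁻¹ = k * (r * (q : MulAut G) (e i) * r⁻¹) * k⁻¹
        by group]
  obtain ⟨c, hc⟩ := hq0 0
  have hshift : ∀ i, Eqv (a * b) ((q : MulAut G) (e i)) (e (i + c)) := by
    have h1 := hequiv _ _ hc
    have h2 := hequiv _ _ h1
    intro i
    rcases z3 i with rfl | rfl | rfl
    · rwa [zero_add]
    · rwa [zero_add, add_comm] at h1
    · rwa [zero_add, show (1 : ZMod 3) + 1 = 2 by decide,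
        show c + 1 + 1 = 2 + c by rw [add_assoc, add_comm]; rfl] at h2
  have hpow : ∀ n : ℕ, ∀ i, Eqv (a * b) (((q : MulAut G) ^ n) (e i)) (e (i + (n : ZMod 3) * c)) := by
    intro n
    induction n with
    | zero => intro i; simp [Eqv]
    | succ n ih =>
      intro i
      have h1 := (ih i).map (q : MulAut G).toMonoidHom
      simp only [MulEquiv.coe_toMonoidHom, hqab] at h1
      rw [pow_succ', MulAut.mul_apply]
      have h2 := h1.trans hzz (hshift _)
      rwa [show i + ((n + 1 : ℕ) : ZMod 3) * c = i + (n : ZMod 3) * c + c by push_cast; ring]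
  have hcard := (surj_and_card hD hprim h22 ha C hC Θ hΘ).2.1
  have hone : (q : MulAut G) ^ 2048 = 1 := by
    have h := pow_card_eq_one' (G := ↥Θ.ker) (x := ⟨q, hq⟩)
    rw [hcard] at h
    have := congrArg (fun z : ↥Θ.ker => ((z : ↥(CA a b)) : MulAut G)) h
    simpa using this
  have h2048 := hpow 2048 0
  rw [hone, MulAut.one_apply, zero_add] at h2048
  have hc0 : c = 0 := shift_zero c (heinj _ _ h2048).symm
  rw [hc0, he0] at hc
  exact hc

/-- The kernel centralises the radical modulo the product. -/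
theorem ker_radical {q : ↥(CA a b)} (hq : q ∈ Θ.ker) {r : G} (hr : r ∈ radical D a b) :
    Eqv (a * b) ((q : MulAut G) r) r := by
  have hb := hb!
  have hzz : a * b * (a * b) = 1 := sq_eq_pair hD ha hb
  have hz : ∀ {p : G}, p ∈ radical D a b → Commute p (a * b) := fun hp => by
    obtain ⟨c1, c2⟩ := mem_KK.1 (radical_le_KK hD hprim h22 ha C hC hp)
    exact c1.mul_right c2
  induction hr using Subgroup.closure_induction with
  | mem t ht =>
    rcases ht with ⟨x, hx, y, hy, rfl⟩ | rfl | rfl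
    · by_cases hne : y = x
      · subst hne
        rw [Classes.sq hD hx.1.1, map_one]
        exact Or.inl rfl
      · exact ker_pairing hD hprim h22 ha C hC Θ hΘ hq hx hy hne
    · rcases pair_of hD hprim h22 ha hb q.2 with ⟨e, -⟩ | ⟨e, -⟩
      · exact Or.inl e
      · exact Or.inr (by rw [e, ← mul_assoc, Classes.sq hD ha, one_mul])
    · rcases pair_of hD hprim h22 ha hb q.2 with ⟨-, e⟩ | ⟨-, e⟩
      · exact Or.inl e
      · refine Or.inr ?_
        rw [e, hb.2.2.eq, ← mul_assoc, Classes.sq hD hb.1, one_mul]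
  | one => exact Or.inl (map_one _)
  | mul p p' hp hp' ih ih' =>
    rw [map_mul]
    rcases ih with e | e <;> rcases ih' with e' | e' <;> rw [e, e']
    · exact Or.inl rfl
    · exact Or.inr (by rw [mul_assoc])
    · exact Or.inr (by rw [mul_assoc, ← (hz hp').eq, mul_assoc])
    · refine Or.inl ?_
      rw [mul_assoc p, ← mul_assoc (a * b), ← (hz hp').eq, mul_assoc p', hzz, mul_one]
  | inv p hp ih =>
    rw [map_inv]
    rcases ih with e | e <;> rw [e]
    · exact Or.inl rfl
    · refine Or.inr ?_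
      rw [_root_.mul_inv_rev, inv_eq_of_mul_eq_one_right hzz, (hz (inv_mem hp)).eq]

/-- Elements commuting with the joint centraliser. -/
theorem central_four {g : G} (hg : g ∈ radical D a b)
    (hfix : ∀ r ∈ radical D a b, g * r * g⁻¹ = r) : g = 1 ∨ g = a ∨ g = b ∨ g = a * b := by
  have hb := hb!
  have hK := fix_KK hD hprim h22 ha C hC (α := MulAut.conj g) hfix
  have := M22.center_KK hD hprim h22 ha C hC (radical_le_KK hD hprim h22 ha C hC hg)
    fun k hk => conj_eq_self_iff.1 (by simpa using hK k hk) |>.symm.symm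
  clear hg hfix hK
  induction this using Subgroup.closure_induction with
  | mem y hy => rcases hy with rfl | rfl <;> simp
  | one => simp
  | mul p p' _ _ ih ih' =>
    have h1 := Classes.sq hD ha
    have h2 := Classes.sq hD hb.1
    have hcab : b * a = a * b := hb.2.2.eq.symm
    have k1 : a * (a * b) = b := by rw [← mul_assoc, h1, one_mul]
    have k2 : b * (a * b) = a := by rw [← mul_assoc, hcab, mul_assoc, h2, mul_one]
    have k3 : a * b * a = b := by rw [mul_assoc, hcab, k1]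
    have k4 : a * b * b = a := by rw [mul_assoc, h2, mul_one]
    rcases ih with rfl | rfl | rfl | rfl <;> rcases ih' with rfl | rfl | rfl | rfl <;>
      simp [h1, h2, hcab, k1, k2, k3, k4, sq_eq_pair hD ha hb]
  | inv p _ ih =>
    rcases ih with rfl | rfl | rfl | rfl
    · simp
    · exact Or.inr (Or.inl (Classes.inv hD ha))
    · exact Or.inr (Or.inr (Or.inl (Classes.inv hD hb.1)))
    · exact Or.inr (Or.inr (Or.inr (inv_eq_of_mul_eq_one_right (sq_eq_pair hD ha hb))))

theorem swap_fixed {q : ↥(CA a b)} (hq : q ∈ Θ.ker) (hout : ¬ IsInner (q : MulAut G)) {g : G}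
    (hg : g = 1 ∨ g = a ∨ g = b ∨ g = a * b) (hqg : (q : MulAut G) g = g) : g = 1 ∨ g = a * b := by
  obtain ⟨e1, e2⟩ := ker_swap hD hprim h22 ha C hC Θ hΘ hq hout
  have hne := (M22.hb_of hD hprim h22 ha C hC).2.1
  rcases hg with rfl | rfl | rfl | rfl
  · exact Or.inl rfl
  · exact absurd (e1.symm.trans hqg) hne
  · exact absurd (hqg.symm.trans e2) hne
  · exact Or.inr rfl

theorem ker_sq {q : ↥(CA a b)} (hq : q ∈ Θ.ker) :
    (q : MulAut G) * q = 1 ∨ (q : MulAut G) * q = MulAut.conj (a * b) := by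
  have hb := hb!
  suffices h : ∃ g, (g = 1 ∨ g = a * b) ∧ (q : MulAut G) * q = MulAut.conj g by
    obtain ⟨g, rfl | rfl, e⟩ := h
    exacts [Or.inl (by rw [e, map_one]), Or.inr e]
  by_cases hin : IsInner (q : MulAut G)
  · obtain ⟨g, hg, e⟩ := ker_inner hD hprim h22 ha C hC Θ hΘ hq hin
    exact ⟨g * g, zpow_cases hD hprim h22 ha hb (M22.radical_sq hD hprim h22 ha hb hg),
      by rw [e, map_mul]⟩
  obtain ⟨g, hg, e⟩ := ker_inner hD hprim h22 ha C hC Θ hΘ (mul_mem hq hq)
    (mul_inner hD hprim h22 hin hin)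
  change (q : MulAut G) * q = MulAut.conj g at e
  refine ⟨g, swap_fixed hD hprim h22 ha C hC Θ hΘ hq hin
    (central_four hD hprim h22 ha C hC Θ hΘ hg fun r hr => ?_) ?_, e⟩
  · have hqab : (q : MulAut G) (a * b) = a * b := (mem_CA hD hprim h22).1 q.2
    rw [← MulAut.conj_apply, ← e, MulAut.mul_apply]
    rcases ker_radical hD hprim h22 ha C hC Θ hΘ hq hr with h | h <;> rw [h]
    · exact h
    · rw [map_mul, h, hqab, mul_assoc, sq_eq_pair hD ha hb, mul_one]
  · apply conj_inj hD hprim h22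
    rw [← conj_aut, ← e]
    group

/-- Only the product centralises the kernel. -/
theorem centralizer_QQ {α : MulAut G} (hα : ∀ q ∈ QQ, q * α = α * q) :
    α = 1 ∨ α = MulAut.conj (a * b) := by
  have hfix : ∀ r ∈ radical D a b, α r = r := fun r hr => by
    apply conj_inj hD hprim h22
    rw [← conj_aut, ← hα _ (conj_QQ hD hprim h22 ha C hC Θ hΘ hr)]
    group
  have hK := fix_KK hD hprim h22 ha C hC hfix
  have hαa : α a = a := hfix a (Subgroup.subset_closure (Or.inr (by simp)))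
  have hαb : α b = b := hfix b (Subgroup.subset_closure (Or.inr (by simp)))
  have hαC : α ∈ CA a b := (mem_CA hD hprim h22).2 (by rw [map_mul, hαa, hαb])
  have hker : (⟨α, hαC⟩ : ↥(CA a b)) ∈ Θ.ker :=
    (mem_ker_iff hD hprim h22 ha C hC Θ hΘ).2 fun k => congrArg φ (Subtype.ext (hK k k.2))
  by_cases hin : IsInner α
  · obtain ⟨g, hg, e⟩ := ker_inner hD hprim h22 ha C hC Θ hΘ hker hin
    change α = MulAut.conj g at e
    obtain ⟨-, -, p, hp, hout⟩ := surj_and_card hD hprim h22 ha C hC Θ hΘ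
    have hpg : (p : MulAut G) g = g := by
      apply conj_inj hD hprim h22
      rw [← conj_aut, ← e, hα _ ((mem_QQ hD hprim h22 ha C hC Θ hΘ).2 ⟨p.2, hp⟩)]
      group
    rcases swap_fixed hD hprim h22 ha C hC Θ hΘ hp hout (central_four hD hprim h22 ha C hC Θ hΘ hg
      fun r hr => by rw [← MulAut.conj_apply, ← e]; exact hfix r hr) hpg with rfl | rfl
    · exact Or.inl (by rw [e, map_one])
    · exact Or.inr e
  · exact absurd ((ker_swap hD hprim h22 ha C hC Θ hΘ hker hin).1.symm.trans hαa)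
      (M22.hb_of hD hprim h22 ha C hC).2.1

theorem card_QQ : Nat.card ↥QQ = 2 ^ 11 := by
  rw [Subgroup.card_map_of_injective (Subgroup.subtype_injective _)]
  exact (surj_and_card hD hprim h22 ha C hC Θ hΘ).2.1

theorem j_mem : MulAut.conj (a * b) ∈ QQ :=
  conj_QQ hD hprim h22 ha C hC Θ hΘ (mul_mem
    (Subgroup.subset_closure (Or.inr (by simp)) : a ∈ radical D a b)
    (Subgroup.subset_closure (Or.inr (by simp)) : b ∈ radical D a b))

theorem QQ_extraspecial : Cfsg.IsExtraspecial 2 ↥QQ := by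
  haveI : Fact (Nat.Prime 2) := ⟨Nat.prime_two⟩
  have hb := hb!
  refine LargeExtra.Affine.isExtraspecial_mk (z := MulAut.conj (a * b))
    (IsPGroup.of_card (n := 11) (card_QQ hD hprim h22 ha C hC Θ hΘ))
    (j_mem hD hprim h22 ha C hC Θ hΘ) ?_ ?_ ?_ ?_ ?_
  · intro e
    exact M22.mul_pair_ne_one hD hprim h22 ha hb (conj_inj hD hprim h22 (e.trans (map_one _).symm))
  · rintro _ ⟨q, -, rfl⟩
    exact Subgroup.mem_centralizer_singleton_iff.1 q.2
  · rintro _ ⟨q, hq, rfl⟩
    exact ker_sq hD hprim h22 ha C hC Θ hΘ hq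
  · exact fun x _ hc => centralizer_QQ hD hprim h22 ha C hC Θ hΘ hc
  · obtain ⟨-, -, p, hp, hout⟩ := surj_and_card hD hprim h22 ha C hC Θ hΘ
    refine ⟨(p : MulAut G), (mem_QQ hD hprim h22 ha C hC Θ hΘ).2 ⟨p.2, hp⟩, MulAut.conj a,
      conj_QQ hD hprim h22 ha C hC Θ hΘ (Subgroup.subset_closure (Or.inr (by simp))), fun e => ?_⟩
    have : (p : MulAut G) a = a := by
      apply conj_inj hD hprim h22
      rw [← conj_aut, ← e]; group
    exact hb.2.1 ((ker_swap hD hprim h22 ha C hC Θ hΘ hp hout).1.symm.trans this)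

theorem QQ_center : (Subgroup.center ↥QQ).map (QQ).subtype =
    Subgroup.zpowers (MulAut.conj (a * b)) := by
  refine le_antisymm ?_ (Subgroup.zpowers_le.2
    ⟨⟨_, j_mem hD hprim h22 ha C hC Θ hΘ⟩, Subgroup.mem_center_iff.2 fun q => Subtype.ext ?_, rfl⟩)
  · rintro _ ⟨x, hx, rfl⟩
    rcases centralizer_QQ hD hprim h22 ha C hC Θ hΘ
      (fun q hq => congrArg Subtype.val (Subgroup.mem_center_iff.1 hx ⟨q, hq⟩)) with e | e
    · rw [show (QQ).subtype x = 1 from e]; exact one_mem _
    · rw [show (QQ).subtype x = _ from e]; exact Subgroup.mem_zpowers _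
  · obtain ⟨_, ⟨p, -, rfl⟩⟩ := q
    exact Subgroup.mem_centralizer_singleton_iff.1 p.2

theorem QQ_normal : CA a b ≤ Subgroup.normalizer ((QQ : Subgroup (MulAut G)) : Set (MulAut G)) := by
  rw [Subgroup.le_normalizer_iff]
  rintro c hc _ ⟨q, hq, rfl⟩
  exact ⟨⟨c, hc⟩ * q * ⟨c, hc⟩⁻¹, Subgroup.Normal.conj_mem inferInstance q hq _, rfl⟩

theorem QQ_odd (K : Subgroup (MulAut G)) (hK : Odd (Nat.card ↥K))
    (hQK : QQ ≤ Subgroup.normalizer (K : Set (MulAut G))) : K = ⊥ := by
  haveI : Fact (Nat.Prime 2) := ⟨Nat.prime_two⟩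
  have hb := hb!
  have hnorm := QQ_normal hD hprim h22 ha C hC Θ hΘ
  have hR : ∀ r ∈ radical D a b, MulAut.conj r ∈ Subgroup.normalizer (K : Set (MulAut G)) :=
    fun r hr => hQK (conj_QQ hD hprim h22 ha C hC Θ hΘ hr)
  have hpair : ∀ g ∈ KK a b, MulAut.conj g ∈ K → g = 1 := by
    intro g hg hgK
    obtain ⟨c1, c2⟩ := mem_KK.1 hg
    have hgC : MulAut.conj g ∈ CA a b := (conj_mem_CA hD hprim h22).2 (c1.mul_right c2)
    have hdisj : (QQ) ⊓ K = ⊥ := by
      apply Subgroup.inf_eq_bot_of_coprime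
      rw [card_QQ hD hprim h22 ha C hC Θ hΘ]
      exact (Nat.coprime_two_left.2 hK).pow_left 11
    have hcomm : ∀ q ∈ QQ, q * MulAut.conj g = MulAut.conj g * q := by
      intro q hq
      have h1 : MulAut.conj g * q * (MulAut.conj g)⁻¹ * q⁻¹ ∈ (QQ) ⊓ K := by
        refine ⟨mul_mem ((Subgroup.mem_normalizer_iff.1 (hnorm hgC) q).1 hq) (Subgroup.inv_mem _ hq), ?_⟩
        rw [mul_assoc (MulAut.conj g) q, mul_assoc (MulAut.conj g)]
        exact mul_mem hgK ((Subgroup.mem_normalizer_iff.1 (hQK hq) _).1 (K.inv_mem hgK))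
      rw [hdisj, Subgroup.mem_bot, mul_inv_eq_one, mul_inv_eq_iff_eq_mul] at h1
      exact h1.symm
    have h := sq_trivial hD hprim h22 hK hgK (by
      rcases centralizer_QQ hD hprim h22 ha C hC Θ hΘ hcomm with e | e <;> rw [e]
      · rw [one_mul]
      · rw [← map_mul, sq_eq_pair hD ha hb, map_one])
    exact conj_inj hD hprim h22 (h.trans (map_one _).symm)
  have hga : ∀ g, MulAut.conj g ∈ K → Commute g a → g = 1 := fun g hgK hg =>
    fixed_trivial hD hprim h22 hK ha hb hR hpair hgK hg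
  have hgb : ∀ g, MulAut.conj g ∈ K → Commute g b → g = 1 := fun g hgK hg =>
    fixed_trivial hD hprim h22 hK hb.1 (Cover.mem_nb_symm ha hb)
      (fun r hr => hR r (radical_symm hD hprim h22 ha hb hr))
      (fun g hg hgK => hpair g (mem_KK.2 ⟨(mem_KK.1 hg).2, (mem_KK.1 hg).1⟩) hgK) hgK hg
  have inv : ∀ d : G, d * d = 1 → MulAut.conj d ∈ Subgroup.normalizer (K : Set (MulAut G)) →
      (∀ g, MulAut.conj g ∈ K → Commute g d → g = 1) →
      ∀ g, MulAut.conj g ∈ K → d * g * d⁻¹ = g⁻¹ := by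
    intro d hdd hdN hfix g hg
    have hdK : ∀ y ∈ K.comap (MulAut.conj : G →* MulAut G),
        d * y * d⁻¹ ∈ K.comap (MulAut.conj : G →* MulAut G) := fun y hy => by
      rw [Subgroup.mem_comap, map_mul, map_mul, map_inv]
      exact (Subgroup.mem_normalizer_iff.1 hdN _).1 hy
    let σ : ↥(K.comap (MulAut.conj : G →* MulAut G)) →*
        ↥(K.comap (MulAut.conj : G →* MulAut G)) :=
      { toFun := fun y => ⟨_, hdK _ y.2⟩
        map_one' := Subtype.ext (by simp)
        map_mul' := fun y w => Subtype.ext (by simp [mul_assoc]) }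
    have hσ : MonoidHom.FixedPointFree σ := fun y hy => Subtype.ext (hfix _ y.2
      (conj_eq_self_iff.1 (congrArg Subtype.val hy : d * (y : G) * d⁻¹ = y)).symm)
    have hsq : σ^[2] = id := by
      funext y
      apply Subtype.ext
      show d * (d * (y : G) * d⁻¹) * d⁻¹ = y
      rw [show d * (d * (y : G) * d⁻¹) * d⁻¹ = (d * d) * y * (d * d)⁻¹ by group, hdd]
      simp
    exact congrArg Subtype.val (congrFun (hσ.coe_eq_inv_of_sq_eq_one hsq) ⟨g, hg⟩)
  have haR : a ∈ radical D a b := Subgroup.subset_closure (Or.inr (by simp))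
  have hbR : b ∈ radical D a b := Subgroup.subset_closure (Or.inr (by simp))
  rw [eq_bot_iff]
  intro α hα
  obtain ⟨g, rfl⟩ := inner_iff.1 (inner_of_odd hD hprim h22 hK hα)
  have e1 := inv a (Classes.sq hD ha) (hR a haR) hga
  have e2 := inv b (Classes.sq hD hb.1) (hR b hbR) hgb
  have hgab : Commute g (a * b) := by
    refine (conj_eq_self_iff.1 ?_).symm
    rw [show a * b * g * (a * b)⁻¹ = a * (b * g * b⁻¹) * a⁻¹ by group, e2 g hα,
      show a * g⁻¹ * a⁻¹ = (a * g * a⁻¹)⁻¹ by group, e1 g hα, inv_inv]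
  have hg1 : g = 1 := by
    rcases M22.pair_cases hD hprim h22 ha hb hgab with h | ⟨h1, h2⟩
    · exact hga g hα (mem_KK.1 h).1
    · have hgg : g * g = 1 := hga _ (by rw [map_mul]; exact mul_mem hα hα) (conj_eq_self_iff.1 (by
        rw [show g * g * a * (g * g)⁻¹ = g * (g * a * g⁻¹) * g⁻¹ by group, h1, h2]))
      exact conj_inj hD hprim h22 ((sq_trivial hD hprim h22 hK hα
        (by rw [← map_mul, hgg, map_one])).trans (map_one _).symm)
  rw [Subgroup.mem_bot, hg1, map_one]

theorem QQ_large : Cfsg.IsLargeExtraspecial (QQ) := by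
  refine ⟨QQ_extraspecial hD hprim h22 ha C hC Θ hΘ, ?_, ?_, QQ_odd hD hprim h22 ha C hC Θ hΘ⟩
  · rw [QQ_center hD hprim h22 ha C hC Θ hΘ]
    refine le_antisymm (fun α hα => ?_) (Subgroup.zpowers_le.2 (Subgroup.mem_centralizer_iff.2 ?_))
    · rcases centralizer_QQ hD hprim h22 ha C hC Θ hΘ
        (fun q hq => Subgroup.mem_centralizer_iff.1 hα q hq) with e | e <;> rw [e]
      exacts [one_mem _, Subgroup.mem_zpowers _]
    · rintro _ ⟨q, -, rfl⟩
      exact Subgroup.mem_centralizer_singleton_iff.1 q.2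
  · rw [QQ_center hD hprim h22 ha C hC Θ hΘ, Subgroup.zpowers_eq_closure,
      Subgroup.centralizer_closure]
    exact QQ_normal hD hprim h22 ha C hC Θ hΘ

end Cfsg.Agent.ThreeTransp.M22Aut
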