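import Cfsg.Agent.Lib.ThreeTransp.M22Aut.Lines
import Cfsg.Agent.Lib.ThreeTransp.M22Aut.Descend
import Cfsg.Agent.Lib.ThreeTransp.M22.Pair

/-!
The centraliser in the automorphism group of the inner automorphism of the product of two commuting
members of a group of type M(22), and the kernel of its action on the four-dimensional quotient.
-/

set_option autoImplicit false
set_option linter.unusedSectionVars false

namespace Cfsg.Agent.ThreeTransp.M22Aut

open Cfsg.Agent.ThreeTransp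
open Cfsg.Agent.ThreeTransp.Factor (nb Hd mem_Hd Hd_commute)
open Cfsg.Agent.ThreeTransp.M22Iso (IsInner)
open Cfsg.Agent.ThreeTransp.M22 (cl KK mem_KK radical lineGens Chart phi conj_eq_self_iff)
open Cfsg.Agent.ThreeTransp.M22.PairHom (v0)

universe u

variable {G : Type u} [Group G]

/-- The centraliser of the inner automorphism of the product. -/
abbrev CA (a b : G) : Subgroup (MulAut G) := Subgroup.centralizer {MulAut.conj (a * b)}

theorem conj_aut (α : MulAut G) (g : G) : α * MulAut.conj g * α⁻¹ = MulAut.conj (α g) :=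
  MulEquiv.ext fun y => by simp [MulAut.mul_apply, MulAut.conj_apply]

variable [Finite G] {D : Set G} (hD : Cfsg.IsThreeTranspositionGroup D)
  (hprim : Cfsg.IsPrimitiveUnderConj D) (h22 : Cfsg.IsOfTypeM22 G D)
include hD hprim h22

theorem conj_inj : Function.Injective (MulAut.conj : G →* MulAut G) :=
  (injective_iff_map_eq_one _).2 fun g hg =>
    M22Iso.eq_one_of_fix hD hprim h22 fun y _ => by simpa using MulEquiv.congr_fun hg y

theorem mem_CA {a b : G} {α : MulAut G} : α ∈ CA a b ↔ α (a * b) = a * b := by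
  rw [Subgroup.mem_centralizer_singleton_iff, ← mul_inv_eq_iff_eq_mul, conj_aut]
  exact (conj_inj hD hprim h22).eq_iff

theorem conj_mem_CA {a b g : G} : MulAut.conj g ∈ CA a b ↔ Commute g (a * b) := by
  rw [mem_CA hD hprim h22, MulAut.conj_apply, mul_inv_eq_iff_eq_mul]
  rfl

theorem pair_of {a b : G} (ha : a ∈ D) (hb : b ∈ nb D a) {α : MulAut G} (hα : α ∈ CA a b) :
    (α a = a ∧ α b = b) ∨ (α a = b ∧ α b = a) := by
  have h4 : Factor.Rel 4 D := (Factor.M22_core hD h22).2.1.mono (by norm_num)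
  have hn := map_nb hD hprim h22 α hb
  exact Factor.pair_unique hD h4 ha hb.1 ((mem_iff hD hprim h22 α).2 ha) hn.1 hb.2.1.symm
    hn.2.1.symm hb.2.2 hn.2.2
    (((mem_CA hD hprim h22).1 hα).symm.trans (map_mul α a b))

theorem map_T {a b : G} (ha : a ∈ D) (hb : b ∈ nb D a) {α : MulAut G} (hα : α ∈ CA a b) {x : G}
    (hx : x ∈ nb D a ∩ nb D b) : α x ∈ nb D a ∩ nb D b := by
  have h1 := map_nb hD hprim h22 α hx.1
  have h2 := map_nb hD hprim h22 α hx.2
  rcases pair_of hD hprim h22 ha hb hα with ⟨e1, e2⟩ | ⟨e1, e2⟩ <;> rw [e1] at h1 <;> rw [e2] at h2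
  exacts [⟨h1, h2⟩, ⟨h2, h1⟩]

theorem map_KK {a b : G} (ha : a ∈ D) (hb : b ∈ nb D a) {α : MulAut G} (hα : α ∈ CA a b) {k : G}
    (hk : k ∈ KK a b) : α k ∈ KK a b := by
  obtain ⟨h1, h2⟩ := mem_KK.1 hk
  rcases pair_of hD hprim h22 ha hb hα with ⟨e1, e2⟩ | ⟨e1, e2⟩
  · exact mem_KK.2 ⟨e1 ▸ h1.map α, e2 ▸ h2.map α⟩
  · exact mem_KK.2 ⟨e2 ▸ h2.map α, e1 ▸ h1.map α⟩

/-- The centraliser acting on the joint centraliser. -/
noncomputable def rho {a b : G} (ha : a ∈ D) (hb : b ∈ nb D a) :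
    ↥(CA a b) →* MulAut ↥(KK a b) where
  toFun α :=
    { toFun := fun k => ⟨(α : MulAut G) k, map_KK hD hprim h22 ha hb α.2 k.2⟩
      invFun := fun k => ⟨(α : MulAut G)⁻¹ k, map_KK hD hprim h22 ha hb (inv_mem α.2) k.2⟩
      left_inv := fun k => Subtype.ext (MulAut.inv_apply_self _ _ _)
      right_inv := fun k => Subtype.ext (MulAut.apply_inv_self _ _ _)
      map_mul' := fun k l => Subtype.ext (map_mul (α : MulAut G) (k : G) l) }
  map_one' := MulEquiv.ext fun _ => rfl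
  map_mul' _ _ := MulEquiv.ext fun _ => rfl

variable {a b : G} (ha : a ∈ D) (C : Chart D a) (hC : C.f v0 = b)
include ha hC

local notation "φ" => phi hD hprim h22 ha C hC
local notation "hb!" => M22.hb_of hD hprim h22 ha C hC

theorem radical_le_KK : radical D a b ≤ KK a b := fun r hr => by
  have h := Subgroup.mem_centralizer_iff.1 (M22.radical_le hD hprim h22 ha hb! hr)
  exact mem_KK.2 ⟨(h a (by simp)).symm, (h b (by simp)).symm⟩

theorem radical_eq : radical D a b = (φ).ker.map (KK a b).subtype := by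
  haveI := (M22.simple_four hD hprim h22 ha C hC).1
  haveI : Fact (Nat.Prime 2) := ⟨Nat.prime_two⟩
  have hle := radical_le_KK hD hprim h22 ha C hC
  haveI : ((radical D a b).subgroupOf (KK a b)).Normal := ⟨fun x hx g => by
    rw [Subgroup.mem_subgroupOf] at hx ⊢
    simp only [Subgroup.coe_mul, InvMemClass.coe_inv]
    exact M22.radical_conj hD hprim h22 ha hb! (Or.inl
      ⟨conj_eq_self_iff.2 (mem_KK.1 g.2).1, conj_eq_self_iff.2 (mem_KK.1 g.2).2⟩) hx⟩
  have hp : IsPGroup 2 ↥((radical D a b).subgroupOf (KK a b)) :=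
    (M22.radical_isPGroup hD hprim h22 ha hb!).of_equiv (Subgroup.subgroupOfEquivOfLe hle).symm
  have hnm : (((radical D a b).subgroupOf (KK a b)).map (φ)).Normal :=
    Subgroup.Normal.map inferInstance _ (M22.phi_surj hD hprim h22 ha C hC)
  have hbot : ((radical D a b).subgroupOf (KK a b)).map (φ) = ⊥ := by
    rcases IsSimpleGroup.eq_bot_or_eq_top_of_normal _
      hnm with h | h
    · exact h
    · exfalso
      obtain ⟨n, hn⟩ := IsPGroup.iff_card.1 ((hp.map (φ)))
      rw [h, Subgroup.card_top, M22.card_four hD hprim h22 ha C hC] at hn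
      have : 5 ∣ 2 ^ n := ⟨5184, hn.symm⟩
      exact absurd ((Nat.prime_dvd_prime_iff_eq (by norm_num) Nat.prime_two).1
        (Nat.Prime.dvd_of_dvd_pow (by norm_num) this)) (by norm_num)
  refine Subgroup.eq_of_le_of_card_ge (fun r hr => ?_) ?_
  · exact ⟨⟨r, hle hr⟩, (Subgroup.map_eq_bot_iff _).1 hbot (Subgroup.mem_subgroupOf.2 hr), rfl⟩
  · rw [Subgroup.card_map_of_injective (Subgroup.subtype_injective _),
      M22.card_phi_ker hD hprim h22 ha C hC]
    exact le_trans (by norm_num) (M22.radical_card hD hprim h22 ha hb!)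

theorem mem_radical {k : G} (hk : k ∈ KK a b) : k ∈ radical D a b ↔ φ ⟨k, hk⟩ = 1 := by
  rw [radical_eq hD hprim h22 ha C hC]
  refine ⟨fun ⟨l, hl, e⟩ => ?_, fun h => ⟨⟨k, hk⟩, h, rfl⟩⟩
  rw [show (⟨k, hk⟩ : ↥(KK a b)) = l from Subtype.ext e.symm]
  exact hl

theorem T_KK {x : G} (hx : x ∈ nb D a ∩ nb D b) : x ∈ KK a b :=
  mem_KK.2 ⟨hx.1.2.2.symm, hx.2.2.2.symm⟩

/-- An automorphism fixing the radical pointwise fixes the joint centraliser pointwise. -/
theorem fix_KK {α : MulAut G} (hR : ∀ r ∈ radical D a b, α r = r) :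
    ∀ k ∈ KK a b, α k = k := by
  have h4 : Factor.Rel 4 D := (Factor.M22_core hD h22).2.1.mono (by norm_num)
  have hb := hb!
  have hαa : α a = a := hR a (Subgroup.subset_closure (Or.inr (by simp)))
  have hαb : α b = b := hR b (Subgroup.subset_closure (Or.inr (by simp)))
  have hαC : α ∈ CA a b := (mem_CA hD hprim h22).2 (by rw [map_mul, hαa, hαb])
  have hfix : ∀ x ∈ nb D a ∩ nb D b, α x = x := by
    intro x hx
    obtain ⟨hcard, hsub⟩ := M22.cl_spec hD hprim h22 ha hb hx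
    have two : ∀ y ∈ cl D a b x, y ≠ x → α x = x ∨ α x = y := by
      intro y hy hne
      have hyT := hsub hy
      have hc := M22.cl_comm hD hprim h22 ha hb hx (Or.inl rfl) hy
      have e := hR _ (Subgroup.subset_closure (Or.inl ⟨x, hx, y, hy, rfl⟩))
      rw [map_mul] at e
      rcases Factor.pair_unique hD h4 hx.1.1 hyT.1.1 ((mem_iff hD hprim h22 α).2 hx.1.1)
        ((mem_iff hD hprim h22 α).2 hyT.1.1) hne.symm (fun e' => hne (α.injective e').symm) hc
        (hc.map α) e.symm with ⟨h1, -⟩ | ⟨h1, -⟩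
      exacts [Or.inl h1, Or.inr h1]
    obtain ⟨y, hy, hyx⟩ := Set.exists_ne_of_one_lt_ncard (by omega : 1 < (cl D a b x).ncard) x
    obtain ⟨s, t, hs, -, hnd, -, -⟩ := M22.cl_prod hD hprim h22 ha hb hx hy hyx
    simp only [List.nodup_cons, List.mem_cons, List.not_mem_nil, or_false, not_or] at hnd
    rcases two y hy hyx with h | h
    · exact h
    rcases two s hs (Ne.symm hnd.1.2.1) with h' | h'
    · exact h'
    · exact absurd (h.symm.trans h') hnd.2.1.1
  let S : Subgroup ↥(KK a b) :=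
    { carrier := {k | α (k : G) = k}
      one_mem' := map_one α
      mul_mem' := fun {p q} hp hq => by
        show α ((p : G) * q) = p * q
        rw [map_mul, hp, hq]
      inv_mem' := fun {p} hp => by
        show α (p : G)⁻¹ = (p : G)⁻¹
        rw [map_inv, hp] }
  haveI := (M22.simple_four hD hprim h22 ha C hC).1
  obtain ⟨U, hU⟩ : ∃ U : Set (Cfsg.PSU 4 C.F 2),
      U = {X | ∃ (x : G) (hx : x ∈ nb D a ∩ nb D b),
        φ ⟨x, T_KK hD hprim h22 ha C hC hx⟩ = X} := ⟨_, rfl⟩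
  have hconj : Group.conjugatesOfSet U ⊆ U := by
    intro Y hY
    obtain ⟨X, hX, hXY⟩ := Group.mem_conjugatesOfSet_iff.1 hY
    obtain ⟨Z, rfl⟩ := isConj_iff.1 hXY
    rw [hU] at hX ⊢
    obtain ⟨x, hx, rfl⟩ := hX
    obtain ⟨k, rfl⟩ := M22.phi_surj hD hprim h22 ha C hC Z
    have h1 := conj_eq_self_iff.2 (mem_KK.1 k.2).1
    have h2 := conj_eq_self_iff.2 (mem_KK.1 k.2).2
    refine ⟨(k : G) * x * (k : G)⁻¹,
      ⟨by have := Cover.conj_nb hD (k : G) hx.1; rwa [h1] at this,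
        by have := Cover.conj_nb hD (k : G) hx.2; rwa [h2] at this⟩, ?_⟩
    rw [← map_mul, ← map_inv, ← map_mul]
    rfl
  have htop : Subgroup.normalClosure U = ⊤ := by
    refine (IsSimpleGroup.eq_bot_or_eq_top_of_normal _ Subgroup.normalClosure_normal).resolve_left
      fun hbot => ?_
    obtain ⟨p, hp⟩ := Set.nonempty_of_ncard_ne_zero
      ((M22.ncard_nb_inter hD hprim h22 ha hb).trans_ne (by norm_num : (180 : ℕ) ≠ 0))
    obtain ⟨e, he, hep, -⟩ := M22.exists_far hD hprim h22 ha hb hp hp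
    have h1 : ∀ x (hx : x ∈ nb D a ∩ nb D b), φ ⟨x, T_KK hD hprim h22 ha C hC hx⟩ = 1 :=
      fun x hx => Subgroup.mem_bot.1 (hbot ▸ Subgroup.subset_normalClosure (hU ▸ ⟨x, hx, rfl⟩))
    exact hep (M22.cl_comm hD hprim h22 ha hb hp
      (M22.mem_cl hD hprim h22 ha C hC hp he _ _ ((h1 p hp).trans (h1 e he).symm)) (Or.inl rfl))
  intro k hk
  have hmem : φ ⟨k, hk⟩ ∈ S.map (φ) := by
    have h : Subgroup.normalClosure U ≤ S.map (φ) := by
      rw [Subgroup.normalClosure, Subgroup.closure_le]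
      intro X hX
      have hX' := hconj hX
      rw [hU] at hX'
      obtain ⟨x, hx, rfl⟩ := hX'
      exact ⟨_, hfix x hx, rfl⟩
    exact h (htop ▸ Subgroup.mem_top _)
  obtain ⟨s, hs, hse⟩ := hmem
  have hr : ((s⁻¹ * ⟨k, hk⟩ : ↥(KK a b)) : G) ∈ radical D a b := by
    rw [mem_radical hD hprim h22 ha C hC (s⁻¹ * ⟨k, hk⟩).2, map_mul, map_inv, hse, inv_mul_cancel]
  have e := hR _ hr
  simp only [Subgroup.coe_mul, InvMemClass.coe_inv, map_mul, map_inv] at e
  rw [show α (s : G) = s from hs] at e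
  exact mul_left_cancel e

/-- The action on the four-dimensional quotient. -/
theorem exists_Theta : ∃ Θ : ↥(CA a b) →* MulAut (Cfsg.PSU 4 C.F 2),
    ∀ α k, Θ α (φ k) = φ (rho hD hprim h22 ha hb! α k) := by
  refine exists_descend (φ) (M22.phi_surj hD hprim h22 ha C hC) _ fun α k hk => ?_
  refine (mem_radical hD hprim h22 ha C hC (map_KK hD hprim h22 ha hb! α.2 k.2)).1 ?_
  have hr : (k : G) ∈ radical D a b := (mem_radical hD hprim h22 ha C hC k.2).2 hk
  have hb := hb!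
  have hαC := α.2
  clear hk
  obtain ⟨g, hg⟩ : ∃ g : G, g = (k : G) := ⟨_, rfl⟩
  rw [← hg] at hr ⊢
  clear hg k
  induction hr using Subgroup.closure_induction with
  | mem t ht =>
    refine Subgroup.subset_closure ?_
    rcases ht with ⟨x, hx, y, hy, rfl⟩ | rfl | rfl
    · refine Or.inl ⟨_, map_T hD hprim h22 ha hb hαC hx, (α : MulAut G) y, ?_, map_mul _ _ _⟩
      rcases hy with rfl | ⟨hy1, ⟨n1, n2, n3⟩, ⟨c1, c2, c3⟩, hf⟩
      · exact Or.inl rfl
      have hyT := map_T hD hprim h22 ha hb hαC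
        (M22.cl_sub hD hprim h22 ha hb hx (Or.inr ⟨hy1, ⟨n1, n2, n3⟩, ⟨c1, c2, c3⟩, hf⟩))
      refine Or.inr ⟨hyT.1.1, ⟨hyT.1.2.1, hyT.2.2.1, fun e => n3 ((α : MulAut G).injective e)⟩,
        ⟨hyT.1.2.2.symm, hyT.2.2.2.symm, c3.map (α : MulAut G)⟩, fun f hf' fa fb fx => ?_⟩
      have hinv := inv_mem hαC
      have h0 := (hf ((α : MulAut G)⁻¹ f) ((mem_iff hD hprim h22 _).2 hf') ?_ ?_ ?_).map
        (α : MulAut G)
      · rwa [MulAut.apply_inv_self] at h0
      · rcases pair_of hD hprim h22 ha hb hinv with ⟨e1, e2⟩ | ⟨e1, e2⟩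
        · have h := fa.map ((α : MulAut G)⁻¹); rwa [e1] at h
        · have h := fb.map ((α : MulAut G)⁻¹); rwa [e2] at h
      · rcases pair_of hD hprim h22 ha hb hinv with ⟨e1, e2⟩ | ⟨e1, e2⟩
        · have h := fb.map ((α : MulAut G)⁻¹); rwa [e2] at h
        · have h := fa.map ((α : MulAut G)⁻¹); rwa [e1] at h
      · simpa using fx.map ((α : MulAut G)⁻¹)
    · rcases pair_of hD hprim h22 ha hb hαC with ⟨e1, -⟩ | ⟨e1, -⟩ <;> rw [e1] <;> simp
    · rcases pair_of hD hprim h22 ha hb hαC with ⟨-, e1⟩ | ⟨-, e1⟩ <;> rw [e1] <;> simp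
  | one => rw [map_one]; exact one_mem _
  | mul p q _ _ hp hq => rw [map_mul]; exact mul_mem hp hq
  | inv p _ hp => rw [map_inv]; exact inv_mem hp

section Ker

variable (Θ : ↥(CA a b) →* MulAut (Cfsg.PSU 4 C.F 2))

variable (hΘ : ∀ (α : ↥(CA a b)) (k : ↥(KK a b)), Θ α (phi hD hprim h22 ha C hC k) =
  phi hD hprim h22 ha C hC (rho hD hprim h22 ha (M22.hb_of hD hprim h22 ha C hC) α k))
include hΘ

theorem mem_ker_iff {α : ↥(CA a b)} :
    α ∈ Θ.ker ↔ ∀ k : ↥(KK a b), φ (rho hD hprim h22 ha hb! α k) = φ k := by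
  rw [MonoidHom.mem_ker]
  refine ⟨fun h k => by rw [← hΘ, h]; rfl, fun h => MulEquiv.ext fun X => ?_⟩
  obtain ⟨k, rfl⟩ := M22.phi_surj hD hprim h22 ha C hC X
  rw [hΘ, h]; rfl

theorem conj_ker {g : G} (hg : MulAut.conj g ∈ CA a b) :
    (⟨_, hg⟩ : ↥(CA a b)) ∈ Θ.ker ↔ g ∈ radical D a b := by
  have hb := hb!
  have hgab := (conj_mem_CA hD hprim h22).1 hg
  rw [mem_ker_iff hD hprim h22 ha C hC Θ hΘ]
  constructor
  · intro h
    rcases M22.pair_cases hD hprim h22 ha hb hgab with hgK | ⟨e1, e2⟩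
    · rw [mem_radical hD hprim h22 ha C hC hgK, ← Subgroup.mem_bot,
        ← (M22.simple_four hD hprim h22 ha C hC).2, Subgroup.mem_center_iff]
      intro X
      obtain ⟨k, rfl⟩ := M22.phi_surj hD hprim h22 ha C hC X
      have e := h k
      rw [show rho hD hprim h22 ha hb ⟨_, hg⟩ k = ⟨g, hgK⟩ * k * ⟨g, hgK⟩⁻¹ from rfl, map_mul,
        map_mul, map_inv, mul_inv_eq_iff_eq_mul] at e
      exact e.symm
    · obtain ⟨X, hX⟩ := M22.act_swap hD hprim h22 ha C hC
        ⟨g, M22.mem_centralizer_iff_commute hD hprim h22 |>.2 hgab⟩ e1 e2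
      obtain ⟨k, rfl⟩ := M22.phi_surj hD hprim h22 ha C hC X
      rw [M22.act_phi] at hX
      exact absurd (h k) hX
  · intro hr k
    have hgK := radical_le_KK hD hprim h22 ha C hC hr
    rw [show rho hD hprim h22 ha hb ⟨_, hg⟩ k = ⟨g, hgK⟩ * k * ⟨g, hgK⟩⁻¹ from rfl, map_mul,
      map_mul, map_inv, (mem_radical hD hprim h22 ha C hC hgK).1 hr, one_mul, inv_one, mul_one]

theorem radical_CA {r : G} (hr : r ∈ radical D a b) : MulAut.conj r ∈ CA a b := by
  obtain ⟨h1, h2⟩ := mem_KK.1 (radical_le_KK hD hprim h22 ha C hC hr)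
  exact (conj_mem_CA hD hprim h22).2 (h1.mul_right h2)

theorem ker_line {q : ↥(CA a b)} (hq : q ∈ Θ.ker) {x : G} (hx : x ∈ nb D a ∩ nb D b) :
    (q : MulAut G) x ∈ cl D a b x := by
  have hqx := map_T hD hprim h22 ha hb! q.2 hx
  exact M22.mem_cl hD hprim h22 ha C hC hx hqx (T_KK hD hprim h22 ha C hC hx)
    (T_KK hD hprim h22 ha C hC hqx)
    ((mem_ker_iff hD hprim h22 ha C hC Θ hΘ).1 hq ⟨x, T_KK hD hprim h22 ha C hC hx⟩).symm

theorem ker_swap {q : ↥(CA a b)} (hq : q ∈ Θ.ker) (hout : ¬ IsInner (q : MulAut G)) :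
    (q : MulAut G) a = b ∧ (q : MulAut G) b = a := by
  rcases pair_of hD hprim h22 ha hb! q.2 with ⟨e1, e2⟩ | h
  · exact absurd (inner_of_lines hD hprim h22 ha hb! e1 e2
      fun x hx => ker_line hD hprim h22 ha C hC Θ hΘ hq hx) hout
  · exact h

theorem ker_inner {q : ↥(CA a b)} (hq : q ∈ Θ.ker) (hin : IsInner (q : MulAut G)) :
    ∃ g ∈ radical D a b, (q : MulAut G) = MulAut.conj g := by
  obtain ⟨g, hg⟩ := inner_iff.1 hin
  have hg' : MulAut.conj g ∈ CA a b := hg ▸ q.2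
  exact ⟨g, (conj_ker hD hprim h22 ha C hC Θ hΘ hg').1
    (by rwa [show (⟨_, hg'⟩ : ↥(CA a b)) = q from Subtype.ext hg.symm]), hg⟩

theorem surj_and_card : Function.Surjective Θ ∧ Nat.card ↥Θ.ker = 2048 ∧
    ∃ q ∈ Θ.ker, ¬ IsInner ((q : ↥(CA a b)) : MulAut G) := by
  classical
  have hb := hb!
  haveI : Fact (Nat.Prime 2) := ⟨Nat.prime_two⟩
  obtain ⟨α₀, h0a, h0b, h0⟩ := exists_outer hD hprim h22 ha hb
  have h0C : α₀ ∈ CA a b := (mem_CA hD hprim h22).2 (by rw [map_mul, h0a, h0b])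
  let Cg : Subgroup G := Subgroup.centralizer ({a * b} : Set G)
  have hmem : ∀ {g : G}, g ∈ Cg ↔ MulAut.conj g ∈ CA a b := fun {g} => by
    rw [conj_mem_CA hD hprim h22]
    exact M22.mem_centralizer_iff_commute hD hprim h22
  let ι : ↥Cg →* ↥(CA a b) := ((MulAut.conj : G →* MulAut G).comp Cg.subtype).codRestrict _
    fun g => hmem.1 g.2
  have hκ : ∀ g, g ∈ (Θ.comp ι).ker ↔ g ∈ (radical D a b).subgroupOf Cg := fun g => by
    rw [MonoidHom.mem_ker, MonoidHom.comp_apply, Subgroup.mem_subgroupOf,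
      ← conj_ker hD hprim h22 ha C hC Θ hΘ (hmem.1 g.2)]
    rfl
  have hle : radical D a b ≤ Cg := fun r hr =>
    hmem.2 (radical_CA hD hprim h22 ha C hC Θ hΘ hr)
  have hkc : Nat.card ↥(Θ.comp ι).ker = 1024 := by
    rw [Subgroup.ext hκ, Nat.card_congr (Subgroup.subgroupOfEquivOfLe hle).toEquiv,
      radical_eq hD hprim h22 ha C hC,
      Subgroup.card_map_of_injective (Subgroup.subtype_injective _),
      M22.card_phi_ker hD hprim h22 ha C hC]
  have haut : Nat.card (MulAut (Cfsg.PSU 4 C.F 2)) = 51840 := by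
    rw [AutPSU.Count.card_mulAut (n := 4) C.hF 2 (f := 1) (by norm_num) (by norm_num) (by norm_num),
      M22.card_four hD hprim h22 ha C hC, show Nat.gcd 4 (2 + 1) = 1 from rfl]
  have hsι : Function.Surjective (Θ.comp ι) := by
    rw [← MonoidHom.range_eq_top]
    apply Subgroup.eq_top_of_card_eq
    have h1 := Subgroup.card_eq_card_quotient_mul_card_subgroup (Θ.comp ι).ker
    rw [Nat.card_congr (QuotientGroup.quotientKerEquivRange (Θ.comp ι)).toEquiv, hkc,
      show Nat.card ↥Cg = 53084160 from M22.card_centralizer_pair hD hprim h22 ha hb] at h1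
    rw [haut]
    omega
  have hsurj : Function.Surjective Θ := fun X => ⟨ι (hsι X).choose, (hsι X).choose_spec⟩
  refine ⟨hsurj, ?_, ?_⟩
  · have hiso : Function.Bijective (Sum.elim (fun g : ↥Cg => ι g)
        fun g : ↥Cg => (⟨α₀, h0C⟩ : ↥(CA a b)) * ι g) := by
      have hcj : ∀ g h : ↥Cg, ι g = ι h → g = h := fun g h e =>
        Subtype.ext (conj_inj hD hprim h22 (congrArg Subtype.val e))
      have hno : ∀ g h : ↥Cg, ι g ≠ (⟨α₀, h0C⟩ : ↥(CA a b)) * ι h := fun g h e => h0 (by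
        have e' : MulAut.conj (g : G) = α₀ * MulAut.conj (h : G) := congrArg Subtype.val e
        rw [eq_mul_inv_iff_mul_eq.2 e'.symm]
        exact inner_mul (inner_conj _) (inner_inv (inner_conj _)))
      constructor
      · rintro (g | g) (h | h) e
        · exact congrArg Sum.inl (hcj g h e)
        · exact absurd e (hno g h)
        · exact absurd e.symm (hno h g)
        · exact congrArg Sum.inr (hcj g h (mul_left_cancel e))
      · intro β
        by_cases hin : IsInner (β : MulAut G)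
        · obtain ⟨g, hg⟩ := inner_iff.1 hin
          exact ⟨Sum.inl ⟨g, hmem.2 (hg ▸ β.2)⟩, Subtype.ext hg.symm⟩
        · have h0i : ¬ IsInner α₀⁻¹ := fun h => h0 (inv_inv α₀ ▸ inner_inv h)
          obtain ⟨g, hg⟩ := inner_iff.1 (mul_inner hD hprim h22 h0i hin)
          refine ⟨Sum.inr ⟨g, hmem.2 (hg ▸ mul_mem (inv_mem h0C) β.2)⟩, Subtype.ext ?_⟩
          show α₀ * MulAut.conj g = β
          rw [← hg, mul_inv_cancel_left]
    have hA : Nat.card ↥(CA a b) = 106168320 := by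
      rw [← Nat.card_congr (Equiv.ofBijective _ hiso), Nat.card_sum,
        show Nat.card ↥Cg = 53084160 from M22.card_centralizer_pair hD hprim h22 ha hb]
    have h1 := Subgroup.card_eq_card_quotient_mul_card_subgroup Θ.ker
    rw [Nat.card_congr (QuotientGroup.quotientKerEquivOfSurjective Θ hsurj).toEquiv, haut, hA] at h1
    omega
  · obtain ⟨g, hg⟩ := hsι (Θ ⟨α₀, h0C⟩)
    refine ⟨⟨α₀, h0C⟩ * (ι g)⁻¹, ?_, fun h => h0 ?_⟩
    · rw [MonoidHom.mem_ker, map_mul, map_inv, ← MonoidHom.comp_apply, hg, mul_inv_cancel]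
    · have := inner_mul h (inner_conj (g : G))
      rw [show (((⟨α₀, h0C⟩ * (ι g)⁻¹ : ↥(CA a b)) : MulAut G)) =
        α₀ * (MulAut.conj (g : G))⁻¹ from rfl, inv_mul_cancel_right] at this
      exact this

end Ker

end Cfsg.Agent.ThreeTransp.M22Aut
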