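import Cfsg.Agent.Lib.ThreeTransp.M22Aut.Outer
import Cfsg.Agent.Lib.ThreeTransp.M22.PairRadical

/-!
The lines at two commuting members of a group of type M(22) in coordinates: an element fixing one
member of a line and moving the other three, and an element of the radical that moves a member
outside to one commuting with it.
-/

set_option autoImplicit false
set_option linter.unusedSectionVars false

namespace Cfsg.Agent.ThreeTransp.M22Aut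

open Matrix
open Cfsg.Agent.Classical.Unitary
open Cfsg.Agent.Forms
open Cfsg.Agent.InvChar.Coset (FF)
open Cfsg.Agent.ThreeTransp
open Cfsg.Agent.ThreeTransp.Factor (nb Hd mem_Hd Hd_commute)
open Cfsg.Agent.ThreeTransp.M22Iso (Vec Pt τ Coord pl pl_pt)
open Cfsg.Agent.ThreeTransp.M22 (cl KK mem_KK radical lineGens)

local notation "H" => Cfsg.hermForm 6 FF 2
local notation "A₀" => pl 0 1 (1 : FF)
local notation "B₀" => pl 0 1 FF.w

universe u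

/-- The entries of the element moving a standard line. -/
def dd : Fin 6 → FF := ![1, 1, FF.w, FF.w, FF.w, 1]

theorem dd_facts : ∏ i, dd i = 1 ∧ (∀ i, dd i ^ (2 + 1) = 1) ∧ (fun i => dd i * A₀ i) = A₀ ∧
    (fun i => dd i * p₁ i) = FF.w • p₁ := by decide +kernel

theorem dd_moves : ∀ u₀ u₂ c : FF, u₀ ≠ 0 → u₂ ≠ 0 →
    u₀ • A₀ + (FF.w * u₂) • p₁ ≠ c • (u₀ • A₀ + u₂ • p₁) := by decide +kernel

set_option maxRecDepth 100000 in
theorem push_pts :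
    Pt (τ p₁ (τ (A₀ + p₁) (τ p₂ (τ (A₀ + p₂) B₀)))) ∧
    H (τ p₁ (τ (A₀ + p₁) (τ p₂ (τ (A₀ + p₂) B₀)))) B₀ = 0 ∧
    (∀ c : FF, B₀ ≠ c • τ p₁ (τ (A₀ + p₁) (τ p₂ (τ (A₀ + p₂) B₀)))) ∧
    Pt (A₀ + p₁) ∧ Pt (A₀ + p₂) ∧
    (∀ c : FF, A₀ + p₁ ≠ c • A₀) ∧ (∀ c : FF, A₀ + p₂ ≠ c • A₀) ∧
    (∀ c : FF, A₀ + p₁ ≠ c • p₁) ∧ ∀ c : FF, A₀ + p₂ ≠ c • p₂ := by decide +kernel

variable {G : Type u} [Group G] [Finite G] {D : Set G} (hD : Cfsg.IsThreeTranspositionGroup D)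
  (hprim : Cfsg.IsPrimitiveUnderConj D) (h22 : Cfsg.IsOfTypeM22 G D)
include hD hprim h22

omit hprim h22 in
theorem mem_inter {a : G} (C : Coord D a) {v : Vec} (hv : Pt v) (hvA : H v A₀ = 0)
    (hne : ∀ c : FF, v ≠ c • A₀) : C.f v ∈ nb D a ∩ nb D (C.f A₀) := by
  have hA₀ : Pt A₀ := base_pts.1
  refine ⟨C.mem v hv, (C.mem_nb hA₀ hv).2 ⟨fun e => ?_, M22Iso.H_comm_zero.1 hvA⟩⟩
  obtain ⟨s, hs⟩ := (C.eq_iff _ _ hA₀ hv).1 e.symm
  exact hne s hs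

omit hprim h22 in
theorem cl_add {a : G} (C : Coord D a) {v : Vec} (hv : Pt v) (hvA : H v A₀ = 0)
    (hs : Pt (A₀ + v)) (h1 : ∀ c : FF, A₀ + v ≠ c • A₀) (h2 : ∀ c : FF, A₀ + v ≠ c • v) :
    C.f (A₀ + v) ∈ cl D a (C.f A₀) (C.f v) := by
  have hA₀ : Pt A₀ := base_pts.1
  refine Or.inr ⟨C.mem_D hs, ⟨(C.mem _ hs).2.1, fun e => ?_, fun e => ?_⟩,
    ⟨(C.mem _ hs).2.2.symm, (C.comm_iff _ _ hs hA₀).2 ?_, (C.comm_iff _ _ hs hv).2 ?_⟩,
    fun f hf fa fb fv => ?_⟩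
  · obtain ⟨s, hs'⟩ := (C.eq_iff _ _ hA₀ hs).1 e.symm
    exact h1 s hs'
  · obtain ⟨s, hs'⟩ := (C.eq_iff _ _ hv hs).1 e.symm
    exact h2 s hs'
  · rw [H_add_left, hA₀.2, hvA, add_zero]
  · rw [H_add_left, hv.2, M22Iso.H_comm_zero.1 hvA, add_zero]
  · by_cases e : f = a
    · rw [e]; exact (C.mem _ hs).2.2
    obtain ⟨y, hy, rfl⟩ := C.cover f ⟨hf, e, fa.symm⟩
    refine (C.comm_iff _ _ hy hs).2 ?_
    rw [M22Iso.H_add_right4, (C.comm_iff _ _ hy hA₀).1 fb, (C.comm_iff _ _ hy hv).1 fv, add_zero]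

/-- An element fixing a member of a line and moving the others. -/
theorem exists_cycle {a b x : G} (ha : a ∈ D) (hb : b ∈ nb D a) (hx : x ∈ nb D a ∩ nb D b) :
    ∃ k ∈ KK a b, k * x * k⁻¹ = x ∧ ∀ z ∈ cl D a b x, z ≠ x → k * z * k⁻¹ ≠ z := by
  obtain ⟨C⟩ := M22Iso.exists_coord hD h22 ha
  obtain ⟨hA₀, h1, -, h1A, -, n1, -, -⟩ := base_pts
  have hpT := mem_inter hD C h1 h1A n1
  obtain ⟨g, hga, hgb, hgx⟩ := M22.triple_trans hD hprim h22 ha hb hx ha (C.mem _ hA₀) hpT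
  obtain ⟨hdet, hcube, hdA, hdp⟩ := dd_facts
  obtain ⟨h, hh, hact⟩ := C.realise hD (suMk (Matrix.diagonal dd)
    (by rw [Matrix.det_diagonal, hdet]) (fun u v => diag_preserves M22Iso.hF4 dd hcube u v))
  have hact' : ∀ v, Pt v → h * C.f v * h⁻¹ = C.f fun i => dd i * v i := fun v hv => by
    rw [hact v hv, suMk_mulVec]
    exact congrArg C.f (funext fun i => Matrix.mulVec_diagonal dd v i)
  have hw : (FF.w : FF) ≠ 0 := by decide
  have hkA : h * C.f A₀ * h⁻¹ = C.f A₀ := by rw [hact' _ hA₀, hdA]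
  have hkp : h * C.f p₁ * h⁻¹ = C.f p₁ := by rw [hact' _ h1, hdp, C.smul_eq h1 hw]
  have hka : h * a * h⁻¹ = a := RankThree.conj_self_of_commute (Hd_commute hh)
  have conj_g : ∀ {y y' : G}, g * y * g⁻¹ = y' → h * y' * h⁻¹ = y' →
      g⁻¹ * h * g * y * (g⁻¹ * h * g)⁻¹ = y := fun {y y'} e e' => by
    rw [show g⁻¹ * h * g * y * (g⁻¹ * h * g)⁻¹ = g⁻¹ * (h * (g * y * g⁻¹) * h⁻¹) * g by group, e,
      e', ← e]
    group
  refine ⟨g⁻¹ * h * g, mem_KK.2 ⟨M22.conj_eq_self_iff.1 (conj_g hga hka),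
    M22.conj_eq_self_iff.1 (conj_g hgb hkA)⟩, conj_g hgx hkp, fun z hz hzx e => ?_⟩
  have hz' := M22.cl_conj hD g hz
  rw [hga, hgb, hgx] at hz'
  have hzne : g * z * g⁻¹ ≠ C.f p₁ := fun e' => hzx (by
    rw [← hgx] at e'; exact mul_left_cancel (mul_right_cancel e'))
  have hfix : h * (g * z * g⁻¹) * h⁻¹ = g * z * g⁻¹ := by
    conv_rhs => rw [← e]
    group
  have hzT := (M22.cl_spec hD hprim h22 ha (C.mem _ hA₀) hpT).2 hz'
  obtain ⟨u, hu, huz⟩ := C.cover _ hzT.1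
  rw [← huz] at hz' hzne hfix hzT
  have huA : H u A₀ = 0 := (C.comm_iff u _ hu hA₀).1 hzT.2.2.2.symm
  have t : ∀ m : FF, m ≠ 0 → Pt (pl 4 5 m) ∧ H (pl 4 5 m) A₀ = 0 ∧ H (pl 4 5 m) p₁ = 0 := by
    decide +kernel
  have g1 : ∀ m : FF, m ≠ 0 → H u (pl 4 5 m) = 0 := fun m hm =>
    cl_perp hD hprim h22 ha C h1 hu hpT hz' (t m hm).1 (t m hm).2.1 (t m hm).2.2
  have eu := span_one u huA (cl_perp hD hprim h22 ha C h1 hu hpT hz' h1 h1A h1.2)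
    (g1 1 one_ne_zero) (g1 FF.w hw)
  have h0 : u 0 ≠ 0 := fun h => hzne (by
    rw [h, zero_smul, zero_add] at eu
    rw [eu, C.smul_eq h1 (fun h' => hu.1 (by rw [eu, h', zero_smul]))])
  have h2 : u 2 ≠ 0 := fun h => hzT.2.2.1 (by
    rw [h, zero_smul, add_zero] at eu
    rw [eu, C.smul_eq hA₀ h0])
  have hdu : (fun i => dd i * u i) = u 0 • A₀ + (FF.w * u 2) • p₁ := funext fun i => by
    have e1 := congrFun hdA i
    have e2 := congrFun hdp i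
    have e3 := congrFun eu i
    simp only [Pi.add_apply, Pi.smul_apply, smul_eq_mul] at e1 e2 e3 ⊢
    linear_combination dd i * e3 + u 0 * e1 + u 2 * e2
  rw [hact' u hu, hdu] at hfix
  have hp : Pt (u 0 • A₀ + (FF.w * u 2) • p₁) := by
    rw [← hdu]
    have := hu.mat (suMk (Matrix.diagonal dd) (by rw [Matrix.det_diagonal, hdet])
      (fun u v => diag_preserves M22Iso.hF4 dd hcube u v))
    rw [suMk_mulVec] at this
    rwa [show Matrix.diagonal dd *ᵥ u = fun i => dd i * u i from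
      funext fun i => Matrix.mulVec_diagonal dd u i] at this
  obtain ⟨c, hc⟩ := (C.eq_iff _ _ hu hp).1 hfix.symm
  exact dd_moves (u 0) (u 2) c h0 h2 (hc.trans (congrArg (c • ·) eu))

/-- The radical moves a member outside to one commuting with it. -/
theorem exists_push {a b b' : G} (ha : a ∈ D) (hb : b ∈ nb D a) (hb' : b' ∈ nb D a)
    (hnc : ¬ Commute b b') :
    ∃ r ∈ radical D a b, Commute (r * b' * r⁻¹) b' ∧ r * b' * r⁻¹ ≠ b' := by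
  obtain ⟨C, rfl, rfl⟩ := M22Iso.exists_framed hD h22 ha hb hb' hnc
  obtain ⟨hA₀, h1, h2, h1A, h2A, n1, n2, -⟩ := base_pts
  have hB₀ : Pt B₀ := pl_pt (by decide) (by decide)
  obtain ⟨hz, hzB, hzne, s1, s2, m1, m2, o1, o2⟩ := push_pts
  have line : ∀ {v : Vec}, Pt v → H v A₀ = 0 → (∀ c : FF, v ≠ c • A₀) → Pt (A₀ + v) →
      (∀ c : FF, A₀ + v ≠ c • A₀) → (∀ c : FF, A₀ + v ≠ c • v) →
      C.f v * C.f (A₀ + v) ∈ radical D a (C.f A₀) := fun {v} hv hvA hne hs k1 k2 =>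
    Subgroup.subset_closure (Or.inl ⟨C.f v, mem_inter hD C hv hvA hne, C.f (A₀ + v),
      cl_add hD C hv hvA hs k1 k2, rfl⟩)
  refine ⟨C.f p₁ * C.f (A₀ + p₁) * (C.f p₂ * C.f (A₀ + p₂)),
    mul_mem (line h1 h1A n1 s1 m1 o1) (line h2 h2A n2 s2 m2 o2), ?_⟩
  have hinv : ∀ {v : Vec}, Pt v → (C.f v)⁻¹ = C.f v := fun hv => Classes.inv hD (C.mem_D hv)
  have e : C.f p₁ * C.f (A₀ + p₁) * (C.f p₂ * C.f (A₀ + p₂)) * C.f B₀ *
      (C.f p₁ * C.f (A₀ + p₁) * (C.f p₂ * C.f (A₀ + p₂)))⁻¹ =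
      C.f (τ p₁ (τ (A₀ + p₁) (τ p₂ (τ (A₀ + p₂) B₀)))) := by
    have q1 : Pt (τ (A₀ + p₂) B₀) := hB₀.tau s2.2
    have q2 : Pt (τ p₂ (τ (A₀ + p₂) B₀)) := q1.tau h2.2
    rw [← C.line _ _ h1 (q2.tau s1.2), ← C.line _ _ s1 q2, ← C.line _ _ h2 q1,
      ← C.line _ _ s2 hB₀]
    simp only [_root_.mul_inv_rev, hinv h1, hinv h2, hinv s1, hinv s2, mul_assoc]
  rw [e]
  refine ⟨(C.comm_iff _ _ hz hB₀).2 hzB, fun e' => ?_⟩
  obtain ⟨c, hc⟩ := (C.eq_iff _ _ hz hB₀).1 e'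
  exact hzne c hc

end Cfsg.Agent.ThreeTransp.M22Aut
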