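import Cfsg.Agent.Lib.ThreeTransp.M22Iso.AutIndex
import Cfsg.Agent.Lib.ThreeTransp.M22Iso.Main
import Cfsg.Agent.Lib.ThreeTransp.M22.Unique
import Cfsg.Agent.Lib.ThreeTransp.M22.Involutions
import Cfsg.Agent.Lib.ThreeTransp.M22.PairQuot
import Cfsg.Agent.Lib.ThreeTransp.Fi22Model.Type

/-!
Automorphisms of a group of type M(22): the class is preserved, an automorphism that is not inner
exists, and none such fixes two commuting members and every line at them.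
-/

set_option autoImplicit false
set_option linter.unusedSectionVars false

namespace Cfsg.Agent.ThreeTransp.M22Aut

open Matrix
open Cfsg.Agent.Classical.Unitary
open Cfsg.Agent.Forms
open Cfsg.Agent.InvChar.Coset (FF)
open Cfsg.Agent.ThreeTransp
open Cfsg.Agent.ThreeTransp.Factor (nb Hd mem_Hd Hd_commute)
open Cfsg.Agent.ThreeTransp.M22Iso (Vec Pt τ Sim Coord pl pl_pt Std wt simSU IsInner)
open Cfsg.Agent.ThreeTransp.M22 (cl)

local notation "H" => Cfsg.hermForm 6 FF 2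
local notation "A₀" => pl 0 1 (1 : FF)

universe u

/-- The second point used to read off the field automorphism. -/
def p₁ : Vec := pl 2 3 1

/-- The third point used to read off the field automorphism. -/
def p₂ : Vec := pl 4 5 1

set_option maxRecDepth 100000 in
theorem span_one : ∀ y : Vec, H y A₀ = 0 → H y p₁ = 0 → H y (pl 4 5 1) = 0 →
    H y (pl 4 5 FF.w) = 0 → y = y 0 • A₀ + y 2 • p₁ := by decide +kernel

set_option maxRecDepth 100000 in
theorem span_two : ∀ y : Vec, H y A₀ = 0 → H y p₂ = 0 → H y (pl 2 3 1) = 0 →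
    H y (pl 2 3 FF.w) = 0 → y = y 0 • A₀ + y 4 • p₂ := by decide +kernel

set_option maxRecDepth 100000 in
theorem span_mix : ∀ l : FF, l ≠ 0 → ∀ y : Vec, H y A₀ = 0 → H y p₁ = 0 → H y p₂ = 0 →
    H y (pl 2 3 FF.w + l • pl 4 5 FF.w) = 0 → y 4 = l * y 2 := by decide +kernel

theorem test_pts : ∀ l : FF, l ≠ 0 →
    let x := p₁ + l • p₂
    let z := pl 2 3 FF.w + l • pl 4 5 FF.w
    Pt x ∧ Pt z ∧ H x A₀ = 0 ∧ H z A₀ = 0 ∧ H z x = 0 ∧ H p₁ x = 0 ∧ H p₂ x = 0 := by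
  decide +kernel

theorem base_pts : Pt A₀ ∧ Pt p₁ ∧ Pt p₂ ∧ H p₁ A₀ = 0 ∧ H p₂ A₀ = 0 ∧
    (∀ c : FF, p₁ ≠ c • A₀) ∧ (∀ c : FF, p₂ ≠ c • A₀) ∧
    (∀ l : FF, l ≠ 0 → ∀ c : FF, p₁ + l • p₂ ≠ c • A₀) := by decide +kernel

variable {G : Type u} [Group G] {D : Set G}

/-- A semilinear map fixing the lines at a point fixes the field. -/
theorem sigma_id {a : G} (C : Coord D a) (S : Sim)
    (hA : ∃ c : FF, S.T A₀ = c • A₀)
    (hline : ∀ v, Pt v → H v A₀ = 0 → (∀ c : FF, v ≠ c • A₀) → ∀ f, Pt f → H f A₀ = 0 →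
      H f v = 0 → H (S.T v) f = 0) :
    ∀ l : FF, l ≠ 0 → S.σ l = l := by
  obtain ⟨-, h1, h2, h1A, h2A, n1, n2, nl⟩ := base_pts
  have hperp : ∀ v, H v A₀ = 0 → H (S.T v) A₀ = 0 := by
    intro v hv
    obtain ⟨c, hc⟩ := hA
    have h := S.form v A₀
    rw [hv, map_zero, hc, H_smul_right] at h
    refine (mul_eq_zero.1 h).resolve_left (pow_ne_zero 2 fun h0 => ?_)
    rw [h0, zero_smul] at hc
    exact (S.pt base_pts.1).1 hc
  have t1 : ∀ m : FF, m ≠ 0 → Pt (pl 4 5 m) ∧ H (pl 4 5 m) A₀ = 0 ∧ H (pl 4 5 m) p₁ = 0 := by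
    decide +kernel
  have t2 : ∀ m : FF, m ≠ 0 → Pt (pl 2 3 m) ∧ H (pl 2 3 m) A₀ = 0 ∧ H (pl 2 3 m) p₂ = 0 := by
    decide +kernel
  have hw : (FF.w : FF) ≠ 0 := by decide
  have g1 : ∀ m : FF, m ≠ 0 → H (S.T p₁) (pl 4 5 m) = 0 := fun m hm =>
    hline p₁ h1 h1A n1 _ (t1 m hm).1 (t1 m hm).2.1 (t1 m hm).2.2
  have e1 := span_one (S.T p₁) (hperp p₁ h1A) (hline p₁ h1 h1A n1 p₁ h1 h1A h1.2)
    (g1 1 one_ne_zero) (g1 FF.w hw)
  have g2 : ∀ m : FF, m ≠ 0 → H (S.T p₂) (pl 2 3 m) = 0 := fun m hm =>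
    hline p₂ h2 h2A n2 _ (t2 m hm).1 (t2 m hm).2.1 (t2 m hm).2.2
  have e2 := span_two (S.T p₂) (hperp p₂ h2A) (hline p₂ h2 h2A n2 p₂ h2 h2A h2.2)
    (g2 1 one_ne_zero) (g2 FF.w hw)
  have key : ∀ l : FF, l ≠ 0 → S.σ l * S.T p₂ 4 = l * S.T p₁ 2 := by
    intro l hl
    obtain ⟨hx, hz, hxA, hzA, hzx, hx1, hx2⟩ := test_pts l hl
    have h4 := span_mix l hl (S.T (p₁ + l • p₂)) (hperp _ hxA)
      (hline _ hx hxA (nl l hl) p₁ h1 h1A hx1) (hline _ hx hxA (nl l hl) p₂ h2 h2A hx2)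
      (hline _ hx hxA (nl l hl) _ hz hzA hzx)
    rw [S.add, S.smul] at h4
    have c14 : S.T p₁ 4 = 0 := by
      rw [e1]
      have : (A₀ : Vec) 4 = 0 ∧ p₁ 4 = 0 := by decide
      simp [this.1, this.2]
    have c22 : S.T p₂ 2 = 0 := by
      rw [e2]
      have : (A₀ : Vec) 2 = 0 ∧ p₂ 2 = 0 := by decide
      simp [this.1, this.2]
    simpa [c14, c22] using h4
  have hne : S.T p₁ 2 ≠ 0 := by
    intro h0
    rw [h0, zero_smul, add_zero] at e1
    obtain ⟨c, hc⟩ := hA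
    refine n1 _ (S.prop_iff.1 ⟨S.T p₁ 0 * c⁻¹, ?_⟩).choose_spec
    have hc0 : c ≠ 0 := fun h => (S.pt base_pts.1).1 (by rw [hc, h, zero_smul])
    rw [hc, smul_smul, inv_mul_cancel_right₀ hc0]
    exact e1
  intro l hl
  have h := key l hl
  have h' := key 1 one_ne_zero
  rw [map_one, one_mul, one_mul] at h'
  rw [h'] at h
  exact mul_right_cancel₀ hne h

theorem inner_mul {α β : MulAut G} (hα : IsInner α) (hβ : IsInner β) : IsInner (α * β) := by
  obtain ⟨m, hm⟩ := hα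
  obtain ⟨n, hn⟩ := hβ
  exact ⟨α n * m, fun x => by
    rw [MulAut.mul_apply, hn, map_mul, map_mul, map_inv, hm x]; group⟩

theorem inner_inv {α : MulAut G} (hα : IsInner α) : IsInner α⁻¹ := by
  obtain ⟨m, hm⟩ := hα
  exact ⟨m⁻¹, fun x => α.injective (by rw [MulAut.apply_inv_self, hm]; group)⟩

theorem inner_conj (g : G) : IsInner (MulAut.conj g) := ⟨g, fun _ => rfl⟩

theorem inner_iff {α : MulAut G} : IsInner α ↔ ∃ g, α = MulAut.conj g :=
  ⟨fun ⟨g, hg⟩ => ⟨g, MulEquiv.ext hg⟩, fun ⟨g, hg⟩ => hg ▸ inner_conj g⟩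

variable [Finite G] (hD : Cfsg.IsThreeTranspositionGroup D)
  (hprim : Cfsg.IsPrimitiveUnderConj D) (h22 : Cfsg.IsOfTypeM22 G D)
include hD hprim h22

/-- Automorphisms preserve the class. -/
theorem image_eq (α : MulAut G) : α '' D = D := by
  obtain ⟨a, ha, -⟩ := id hprim.2.1
  refine M22.unique_class hD hprim h22 ⟨⟨?_, ?_⟩, ⟨α a, ⟨a, ha, rfl⟩, ?_⟩, ?_⟩
    fun x hx => M22.exists_prod hD hprim h22 hx
  · rintro _ ⟨d, hd, rfl⟩
    rw [MulEquiv.orderOf_eq, hD.1.1 d hd]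
  · rintro _ ⟨d, hd, rfl⟩ _ ⟨e, he, rfl⟩
    rw [← map_mul, ← map_pow, ← map_pow, map_eq_one_iff _ α.injective,
      map_eq_one_iff _ α.injective]
    exact hD.1.2 d hd e he
  · ext y
    constructor
    · rintro ⟨d, hd, rfl⟩
      obtain ⟨g, rfl⟩ := hprim.1 a ha d hd
      exact isConj_iff.2 ⟨α g, by simp⟩
    · intro hy
      obtain ⟨g, rfl⟩ := isConj_iff.1 hy
      exact ⟨α⁻¹ g * a * (α⁻¹ g)⁻¹, hD.2.1 _ a ha, by simp⟩
  · have h := congrArg (Subgroup.map α.toMonoidHom) hD.2.2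
    rw [MonoidHom.map_closure, Subgroup.map_top_of_surjective _ α.surjective] at h
    exact h

theorem mem_iff (α : MulAut G) {y : G} : α y ∈ D ↔ y ∈ D := by
  conv_lhs => rw [← image_eq hD hprim h22 α]
  exact α.injective.mem_set_image

theorem map_nb (α : MulAut G) {a y : G} (hy : y ∈ nb D a) : α y ∈ nb D (α a) :=
  ⟨(mem_iff hD hprim h22 α).2 hy.1, fun e => hy.2.1 (α.injective e), hy.2.2.map α⟩

/-- Two automorphisms that are not inner have an inner product. -/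
theorem mul_inner {α β : MulAut G} (hα : ¬ IsInner α) (hβ : ¬ IsInner β) : IsInner (α * β) := by
  rcases M22Iso.index_two hD hprim h22 (image_eq hD hprim h22 α) (image_eq hD hprim h22 β) with
    h | h | h
  exacts [absurd h hα, absurd h hβ, h]

/-- An automorphism that is not inner exists, fixing two given commuting members. -/
theorem exists_outer {a b : G} (ha : a ∈ D) (hb : b ∈ nb D a) :
    ∃ α : MulAut G, α a = a ∧ α b = b ∧ ¬ IsInner α := by
  haveI := InvChar.Coset.FiUnit.finite_Fi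
  obtain ⟨e, -⟩ := M22Iso.exists_iso hD hprim h22 Fi22Model.grp Fi22Model.primitive
    Fi22Model.type22
  obtain ⟨ρ, hρ⟩ : ∃ ρ : MulAut G, ρ = (e.trans InvChar.Coset.FiOut.psi).trans e.symm := ⟨_, rfl⟩
  obtain ⟨k, hka, hkb⟩ := M22.pair_trans hD hprim h22 ((mem_iff hD hprim h22 ρ).2 ha)
    (map_nb hD hprim h22 ρ hb) ha hb
  refine ⟨MulAut.conj k * ρ, hka, hkb, fun hin => ?_⟩
  have h := inner_mul (inner_inv (inner_conj k)) hin
  rw [inv_mul_cancel_left] at h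
  obtain ⟨m, hm⟩ := h
  refine InvChar.Coset.FiOut.psi_not_inner (e m) (MulEquiv.ext fun y => ?_)
  have := hm (e.symm y)
  rw [hρ] at this
  simp only [MulEquiv.trans_apply, MulEquiv.apply_symm_apply] at this
  rw [MulAut.conj_apply, ← e.apply_symm_apply (InvChar.Coset.FiOut.psi y), this, map_mul, map_mul,
    map_inv, e.apply_symm_apply]

/-- Coordinates of a member of a line. -/
theorem cl_perp {a : G} (ha : a ∈ D) (C : Coord D a) {v u f : Vec} (hv : Pt v) (hu : Pt u)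
    (hvT : C.f v ∈ nb D a ∩ nb D (C.f A₀)) (hmem : C.f u ∈ cl D a (C.f A₀) (C.f v)) (hf : Pt f)
    (hfA : H f A₀ = 0) (hfv : H f v = 0) : H u f = 0 := by
  have hA₀ : Pt A₀ := base_pts.1
  refine M22Iso.H_comm_zero.1 ((C.comm_iff f _ hf hu).1 ?_)
  by_cases e : C.f f = C.f A₀
  · rw [e]
    exact ((M22.cl_spec hD hprim h22 ha (C.mem _ hA₀) hvT).2 hmem).2.2.2
  rcases hmem with e' | hthird
  · rw [e']; exact (C.comm_iff f v hf hv).2 hfv
  · exact hthird.2.2.2 _ (C.mem_D hf) (C.mem f hf).2.2.symm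
      ((C.comm_iff f A₀ hf hA₀).2 hfA) ((C.comm_iff f v hf hv).2 hfv)

/-- An automorphism fixing two commuting members and every line at them is inner. -/
theorem inner_of_lines {α : MulAut G} {a b : G} (ha : a ∈ D) (hb : b ∈ nb D a) (hαa : α a = a)
    (hαb : α b = b) (hl : ∀ x ∈ nb D a ∩ nb D b, α x ∈ cl D a b x) : IsInner α := by
  obtain ⟨c, hc, hac⟩ := Classes.exists_noncomm hD hprim.1 hprim.2.1 ha
  obtain ⟨C, hC⟩ := M22Iso.exists_std hD hprim h22 ha hc hac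
  have hA₀ : Pt A₀ := base_pts.1
  wlog hbA : b = C.f A₀ generalizing b α
  · obtain ⟨g, hga, hgb⟩ := M22.pair_trans hD hprim h22 ha hb ha (C.mem _ hA₀)
    have hga' : g⁻¹ * a * g⁻¹⁻¹ = a := by
      rw [inv_inv, mul_assoc, inv_mul_eq_iff_eq_mul]
      exact (mul_inv_eq_iff_eq_mul.1 hga).symm
    have hgb' : g⁻¹ * C.f A₀ * g⁻¹⁻¹ = b := by rw [← hgb]; group
    obtain ⟨β, hβ⟩ : ∃ β, β = MulAut.conj g * α * (MulAut.conj g)⁻¹ := ⟨_, rfl⟩
    have happ : ∀ x, β x = g * α (g⁻¹ * x * g⁻¹⁻¹) * g⁻¹ := fun x => by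
      rw [hβ, ← map_inv]; simp only [MulAut.mul_apply, MulAut.conj_apply]
    have h := this (α := β) (b := C.f A₀) (C.mem _ hA₀) (by rw [happ, hga', hαa, hga])
      (by rw [happ, hgb', hαb, hgb]) (fun x hx => ?_) rfl
    · have h' := inner_mul (inner_mul (inner_inv (inner_conj g)) h) (inner_conj g)
      rwa [hβ, show (MulAut.conj g)⁻¹ * (MulAut.conj g * α * (MulAut.conj g)⁻¹) * MulAut.conj g = α
        by group] at h'
    · have hx' : g⁻¹ * x * g⁻¹⁻¹ ∈ nb D a ∩ nb D b :=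
        ⟨hga' ▸ Cover.conj_nb hD g⁻¹ hx.1, hgb' ▸ Cover.conj_nb hD g⁻¹ hx.2⟩
      have := M22.cl_conj hD g (hl _ hx')
      rw [hga, hgb, ← happ] at this
      rwa [show g * (g⁻¹ * x * g⁻¹⁻¹) * g⁻¹ = x by group] at this
  subst hbA
  -- move the image of `c` back
  obtain ⟨k, hk, hkc⟩ := RankThree.linked_outer hD hprim (M22.exists_commuting hD hprim h22) ha
    ((mem_iff hD hprim h22 α).2 hc) hc
    (fun h => hac (by rw [← hαa] at h; simpa using h.map α.symm)) hac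
  rw [M22.loc_eq hD hprim h22 ha] at hk
  have hka : k * a * k⁻¹ = a := RankThree.conj_self_of_commute (Hd_commute hk)
  obtain ⟨β, hβ⟩ : ∃ β, β = MulAut.conj k * α := ⟨_, rfl⟩
  have hβv : ∀ x, β x = k * α x * k⁻¹ := fun x => by rw [hβ]; rfl
  obtain ⟨h, hh, hcase⟩ := M22Iso.exists_normal hD hprim h22 ha hc hac C hC
    (σ := β) (image_eq hD hprim h22 β) (by rw [hβv, hαa, hka]) (by rw [hβv, hkc])
  have hha : h * a * h⁻¹ = a := RankThree.conj_self_of_commute (Hd_commute hh)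
  rcases hcase with hlin | hfrob
  · have h' : IsInner ((MulAut.conj h)⁻¹ * β) := by
      refine M22Iso.inner_of_fix_ball hD hprim h22 ha hc hac (image_eq hD hprim h22 _) ?_
        fun y hy => ?_
      · rw [MulAut.mul_apply, ← map_inv, MulAut.conj_apply, hβv, hαa, hka]
        conv_lhs => rw [← hha]
        group
      · obtain ⟨v, hv, rfl⟩ := C.cover y hy
        rw [MulAut.mul_apply, hlin v hv, ← map_inv, MulAut.conj_apply]; group
    have h2 := inner_mul (inner_conj h) h'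
    rw [mul_inv_cancel_left, hβ] at h2
    have h3 := inner_mul (inner_inv (inner_conj k)) h2
    rwa [inv_mul_cancel_left] at h3
  exfalso
  obtain ⟨g, hg⟩ := M22Iso.Coord.act C hD (mul_mem (inv_mem hk) hh)
  have hne : ∀ _i : Fin 6, (1 : FF) ≠ 0 := fun _ => one_ne_zero
  obtain ⟨S, hS⟩ : ∃ S, S = (M22Iso.mon 1 (fun _ => 1) hne M22Iso.frob).trans (simSU g) := ⟨_, rfl⟩
  have hST : ∀ v, Pt v → α (C.f v) = C.f (S.T v) := by
    intro v hv
    have hsq : (M22Iso.mon 1 (fun _ => 1) hne M22Iso.frob).T v = fun i => v i ^ 2 := funext fun i => by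
      have e := M22Iso.mon_apply 1 (fun _ => (1 : FF)) hne M22Iso.frob v i
      rw [Equiv.Perm.one_apply] at e
      rw [e, mul_one, M22Iso.frob_apply]
    have hp := (M22Iso.mon 1 (fun _ => 1) hne M22Iso.frob).pt hv
    rw [hS, M22Iso.Sim.trans_apply, show (simSU g).T _ = mat g *ᵥ _ from rfl, ← hg _ hp, hsq]
    have := hfrob v hv
    rw [hβv] at this
    rw [show k⁻¹ * h * C.f (fun i => v i ^ 2) * (k⁻¹ * h)⁻¹ =
      k⁻¹ * (h * C.f (fun i => v i ^ 2) * h⁻¹) * k by group, ← this]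
    group
  have hid := sigma_id C S ?_ ?_ FF.w (by decide)
  · rw [hS] at hid
    exact (show (FF.w : FF) ^ 2 ≠ FF.w by decide) hid
  · obtain ⟨s, hs⟩ := (C.eq_iff _ _ hA₀ (S.pt hA₀)).1 (by rw [← hST _ hA₀, hαb])
    exact ⟨s, hs⟩
  · intro v hv hvA hne' f hf hfA hfv
    have hvT : C.f v ∈ nb D a ∩ nb D (C.f A₀) := by
      refine ⟨C.mem v hv, (C.mem_nb hA₀ hv).2 ⟨fun e => ?_, M22Iso.H_comm_zero.1 hvA⟩⟩
      obtain ⟨s, hs⟩ := (C.eq_iff _ _ hA₀ hv).1 e.symm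
      exact hne' s hs
    have hmem := hl _ hvT
    rw [hST v hv] at hmem
    exact cl_perp hD hprim h22 ha C hv (S.pt hv) hvT hmem hf hfA hfv

end Cfsg.Agent.ThreeTransp.M22Aut
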